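import Cfsg.Agent.Lib.SFreeW.MainTI.Rho
import Cfsg.Agent.Lib.Fusion.SFreeFF.Local

/-!
Quadratic action contradicts the bound: two swappers whose restrictions differ by an element of `A`.
-/

set_option autoImplicit false
set_option linter.unusedSectionVars false
set_option linter.style.haveILetI false

namespace CfsgLib.SFreeW

open CfsgLib.Fusion.SFreeFF CfsgLib.Fusion.CentralOffender

universe u

variable {X V : Type u} [Group X] [Finite X] [CommGroup V] [Finite V] {φ : X →* MulAut V} {A M : Subgroup X}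

/-- A periodic injective additive map whose order is a power of two fixes a nontrivial vector. -/
theorem exists_fixed_of_two_pow {W : Type*} [CommGroup W] (h2 : Exp2 W) (z : W →* W) {s : ℕ}
    (hs : ∀ w, z^[2 ^ s] w = w) {w0 : W} (hw0 : w0 ≠ 1) : ∃ w, w ≠ 1 ∧ z w = w := by
  set N : W → W := fun w => z w * w with hN
  have hzN : ∀ i w, z^[i] (z^[i] w * w) = z^[i] (z^[i] w) * z^[i] w := fun i w => by
    induction i generalizing w with
    | zero => rfl
    | succ i _ => exact iterate_map_mul z _ _ _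
  have hit : ∀ i w, N^[2 ^ i] w = z^[2 ^ i] w * w := by
    intro i
    induction i with
    | zero => intro w; rfl
    | succ i ih =>
      intro w
      rw [pow_succ, mul_two, Function.iterate_add_apply, Function.iterate_add_apply, ih, ih, hzN, mul_assoc,
        ← mul_assoc (z^[2 ^ i] w) (z^[2 ^ i] w) w, h2, one_mul]
  have hend : N^[2 ^ s] w0 = 1 := by rw [hit, hs, h2]
  by_contra hc
  push Not at hc
  have hne : ∀ n, N^[n] w0 ≠ 1 := by
    intro n
    induction n with
    | zero => exact hw0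
    | succ n ih =>
      rw [Function.iterate_succ_apply']
      intro h
      exact hc _ ih (by
        rw [eq_inv_of_mul_eq_one_left (h : z (N^[n] w0) * N^[n] w0 = 1), exp2_inv h2])
  exact hne _ hend

namespace OP

theorem false_of_quadratic (h : OP φ A M) (h2a : 2 ≤ dl A)
    (hsmall : dl (⊤ : Subgroup V) < 2 * dl A + dl (fix φ A))
    (hquad : ∀ x ∈ A, ∀ y ∈ A, ∀ v, del φ x (del φ y v) = 1) : False := by
  classical
  have hti := h.rep.ti
  have hV2 := h.rep.exp
  obtain ⟨u, hu, huM⟩ := h.exists_outer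
  obtain ⟨a₁, ha₁, ha₁1⟩ := hti.exists_ne
  have hui : u⁻¹ = u := inv_eq_of_mul_eq_one_right hu
  set F := fix φ A
  set F' := fix φ (cj A u)
  have hF'mem : ∀ {w : V}, w ∈ F' ↔ φ u w ∈ F := fun {w} => by
    constructor
    · intro hw x hx
      have h1 := hw _ (conj_mem_cj (g := u) hx)
      rw [hui] at h1
      calc φ x (φ u w) = φ u (φ (u * x * u) w) := by
            rw [← apply_mul, ← apply_mul, show u * (u * x * u) = u * u * x * u by group, hu, one_mul]
        _ = φ u w := by rw [h1]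
    · rintro hw _ ⟨x, hx, rfl⟩
      show φ (u * x * u⁻¹) w = w
      rw [hui, apply_mul, apply_mul, hw x hx, ← apply_mul, hu, apply_one]
  have hinter : F ⊓ F' = ⊥ := h.fix_inter huM
  have hdelF : ∀ x ∈ A, ∀ v, del φ x v ∈ F := fun x hx v y hy => (del_eq_one φ).mp (hquad y hy x hx v)
  -- the module is the sum of the two fixed spaces
  set W := F ⊔ F'
  have hWA : ∀ x ∈ A, ∀ v ∈ W, φ x v ∈ W := fun x hx v hv => by
    rw [apply_eq_del]; exact W.mul_mem (Subgroup.mem_sup_left (hdelF x hx v)) hv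
  have hWu : ∀ v ∈ W, φ u v ∈ W := by
    have hle : W ≤ W.comap (φ u).toMonoidHom := sup_le (fun f hf => Subgroup.mem_sup_right (hF'mem.mpr (by
      show φ u (φ u f) ∈ F
      rw [← apply_mul, hu, apply_one]; exact hf))) (fun f hf => Subgroup.mem_sup_left (hF'mem.mp hf))
    exact fun v hv => hle hv
  have hFne : F ≠ ⊥ := exists_fixed hti.isPGroup hV2 fun hc => ha₁1 (h.rep.inj (MulEquiv.ext fun v => by
    haveI := (Nat.card_eq_one_iff_unique.1 hc).1
    exact Subsingleton.elim _ _))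
  have hWtop : W = ⊤ := by
    let S : Subgroup X := setStab φ W
    have hS : S = ⊤ := h.max S (fun x hx => hWA x hx) fun hle => huM (hle hWu)
    exact (h.irr W fun g v hv => (hS ▸ Subgroup.mem_top g : g ∈ S) v hv).resolve_left
      fun he => hFne (le_bot_iff.mp (he ▸ le_sup_left))
  have hdlF' : ∀ g : X, dl (fix φ (cj A g)) = dl F := fun g => by
    rw [cj, fix_map, dl, dl, Subgroup.card_map_of_injective (φ g).injective]
  have hdlV : dl (⊤ : Subgroup V) = 2 * dl F := by
    have h1 := dl_sup_add_inf hV2 F F'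
    rw [hinter, dl_bot, show F ⊔ F' = ⊤ from hWtop, hdlF' u] at h1
    omega
  have hm : dl F < 2 * dl A := by
    have h1 : dl (⊤ : Subgroup V) < 2 * dl A + dl F := hsmall
    omega
  have hFpos : 0 < dl F := dl_pos hV2 hFne
  obtain ⟨l0, hl0, hl01⟩ : ∃ l ∈ F', l ≠ 1 := by
    by_contra hc
    push Not at hc
    have := hdlF' u
    rw [show fix φ (cj A u) = ⊥ from (Subgroup.eq_bot_iff_forall _).mpr hc, dl_bot] at this
    omega
  have huniq : ∀ {f f' w w' : V}, f ∈ F → f' ∈ F → w ∈ F' → w' ∈ F' → f * w = f' * w' → f = f' ∧ w = w' := by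
    intro f f' w w' hf hf' hw hw' e
    have h0 : f'⁻¹ * f = w' * w⁻¹ := by
      rw [eq_mul_inv_iff_mul_eq, mul_assoc, e, inv_mul_cancel_left]
    have h1 : f'⁻¹ * f ∈ F ⊓ F' := ⟨F.mul_mem (F.inv_mem hf') hf, h0 ▸ F'.mul_mem hw' (F'.inv_mem hw)⟩
    rw [hinter, Subgroup.mem_bot, inv_mul_eq_one] at h1
    exact ⟨h1.symm, mul_left_cancel (h1.symm ▸ e)⟩
  -- the swappers
  have hsw : ∀ v : Sw M u, (∀ f ∈ F, φ v.1 f ∈ F') ∧ (∀ w ∈ F', φ v.1 w ∈ F) := by
    rintro ⟨v, hv, hvM, hvu⟩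
    have key : ∀ x ∈ A, (u * v) * x * (u * v)⁻¹ ∈ A := fun x hx => hti.conj_mem (by rwa [hui] at hvu) hx
    have hvi : v⁻¹ = v := inv_eq_of_mul_eq_one_right hv
    have hm1 : u * v ∈ M := by rwa [hui] at hvu
    have hkey2 : ∀ f ∈ F, φ (u * v) f ∈ F := fun f hf x hx => by
      have h1 := hti.conj_mem (M.inv_mem hm1) hx
      rw [← apply_mul, show x * (u * v) = (u * v) * ((u * v)⁻¹ * x * (u * v)⁻¹⁻¹) by group, apply_mul, hf _ h1]
    have hkey3 : ∀ f ∈ F, φ (v * u) f ∈ F := fun f hf x hx => by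
      have hm2 : v * u ∈ M := by have := M.inv_mem hm1; rwa [mul_inv_rev, hvi, hui] at this
      have h1 := hti.conj_mem (M.inv_mem hm2) hx
      rw [← apply_mul, show x * (v * u) = (v * u) * ((v * u)⁻¹ * x * (v * u)⁻¹⁻¹) by group, apply_mul, hf _ h1]
    refine ⟨fun f hf => hF'mem.mpr ?_, fun w hw => ?_⟩
    · show φ u (φ v f) ∈ F
      rw [← apply_mul]
      exact hkey2 f hf
    · show φ v w ∈ F
      have := hkey3 _ (hF'mem.mp hw)
      rwa [← apply_mul, mul_assoc, hu, mul_one] at this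
  have hfixsw : ∀ v : Sw M u, dl (fix φ (Subgroup.zpowers v.1)) ≤ dl F := by
    intro v
    have h1 := dl_sup_add_inf hV2 F (fix φ (Subgroup.zpowers v.1))
    have h2 : F ⊓ fix φ (Subgroup.zpowers v.1) = ⊥ := by
      refine le_bot_iff.mp ?_
      rw [← hinter]
      intro f hf
      refine ⟨hf.1, ?_⟩
      have h3 := (hsw v).1 f hf.1
      rwa [mem_fix_zpowers.mp hf.2] at h3
    rw [h2, dl_bot] at h1
    have := dl_mono (le_top : F ⊔ fix φ (Subgroup.zpowers v.1) ≤ ⊤)
    omega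
  -- the point of a swapper
  have hpt : ∀ v : Sw M u, ∃ p, p ∉ M ∧ v.1 ∈ cj A p ∧ fix φ (cj A p) = fix φ (Subgroup.zpowers v.1) := by
    intro v
    obtain ⟨p, hp, hpv⟩ := h.inv_conj ha₁ ha₁1 v.2.1 v.2.2.1
    have hmem : v.1 ∈ cj A p := hpv ▸ conj_mem_cj ha₁
    refine ⟨p, hp, hmem, eq_of_dl_le hV2 (fix_anti φ (Subgroup.zpowers_le.mpr hmem)) ?_⟩
    rw [hdlF']
    exact hfixsw v
  -- pigeonhole
  let ev : A →* F :=
    { toFun := fun x => ⟨del φ (x : X) l0, hdelF x x.2 l0⟩
      map_one' := Subtype.ext ((del_eq_one φ).mpr (apply_one φ l0))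
      map_mul' := fun x y => Subtype.ext (show del φ ((x : X) * y) l0 = del φ (x : X) l0 * del φ (y : X) l0 by
        rw [del_mul, hquad x x.2 y y.2, mul_one]) }
  have hev : Function.Injective ev := by
    rw [injective_iff_map_eq_one]
    intro x hx
    by_contra hx1
    have hx1' : (x : X) ≠ 1 := fun e => hx1 (Subtype.ext e)
    have hfx : φ (x : X) l0 = l0 := (del_eq_one φ).mp (congrArg Subtype.val hx)
    let S : Subgroup X := ((MulAction.stabilizer (MulAut V) l0).comap φ)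
    have hS : S.comap (MulAut.conj u).toMonoidHom = ⊤ := h.max _ (fun y hy => hl0 _ (conj_mem_cj hy)) fun hle =>
      hti.inf_M_eq_of_conj x.2 hx1' huM (hle (show φ (u * (u * x * u⁻¹) * u⁻¹) l0 = l0 by
        rw [hui, show u * (u * (x : X) * u) * u = (u * u) * x * (u * u) by group, hu, one_mul, mul_one, hfx]))
    have hfix : l0 ∈ fix φ ⊤ := fun g _ => by
      have h1 : u⁻¹ * g * u ∈ S.comap (MulAut.conj u).toMonoidHom := hS ▸ Subgroup.mem_top _
      have h2 : φ (u * (u⁻¹ * g * u) * u⁻¹) l0 = l0 := h1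
      rwa [show u * (u⁻¹ * g * u) * u⁻¹ = g by group] at h2
    rw [fix_top_eq_bot h.rep.inj h.irr ⟨a₁, ha₁1⟩] at hfix
    exact hl01 (Subgroup.mem_bot.mp hfix)
  let Φ : Sw M u → F ⧸ ev.range := fun v => QuotientGroup.mk ⟨φ v.1 l0, (hsw v).2 l0 hl0⟩
  obtain ⟨v, v', hne, heq⟩ : ∃ v v' : Sw M u, v ≠ v' ∧ Φ v = Φ v' := by
    by_contra hc
    push Not at hc
    have hinj : Function.Injective Φ := fun v v' e => by_contra fun hne => hc v v' hne e
    have h1 := Nat.card_le_card_of_injective Φ hinj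
    have h2 := Subgroup.card_eq_card_quotient_mul_card_subgroup ev.range
    rw [← Nat.card_congr (MonoidHom.ofInjective hev).toEquiv, h.rep.card_sub le_rfl, card_eq_pow hV2 F] at h2
    have h3 := h.card_sw h2a huM
    obtain ⟨k, hk⟩ : ∃ k, dl A = k + 1 := ⟨dl A - 1, by omega⟩
    have h4 : Nat.card (F ⧸ ev.range) ≤ 2 ^ k := by
      refine Nat.le_of_mul_le_mul_right (c := 2 ^ dl A) ?_ (by positivity)
      rw [← h2, ← pow_add]
      exact Nat.pow_le_pow_right two_pos (by omega)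
    have h5 : 2 ≤ 2 ^ k := le_trans (by norm_num) (Nat.pow_le_pow_right two_pos (show 1 ≤ k by omega))
    rw [hk, pow_succ] at h3
    omega
  obtain ⟨⟨x, hx⟩, hxe⟩ := QuotientGroup.eq.mp heq
  have hxe' : del φ x l0 = (φ v.1 l0)⁻¹ * φ v'.1 l0 := congrArg Subtype.val hxe
  have hv'l0 : φ v'.1 l0 = φ v.1 l0 * del φ x l0 := by rw [hxe', mul_inv_cancel_left]
  -- the two restrictions differ by `x`
  obtain ⟨p, hp, hpv, hpfix⟩ := hpt v
  obtain ⟨p', hp', hpv', hp'fix⟩ := hpt v'
  have hxp : cj A (x * p) = cj A p' := by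
    by_contra hne'
    have hg : (x * p)⁻¹ * p' ∉ M := by
      intro hm
      refine hne' ?_
      have h1 : cj A ((x * p)⁻¹ * p') = A := mem_normalizer_iff_cj.mp (hti.norm ▸ hm)
      calc cj A (x * p) = cj (cj A ((x * p)⁻¹ * p')) (x * p) := by rw [h1]
        _ = cj A p' := by rw [cj_cj, mul_inv_cancel_left]
    have h0 := h.fix_inter hg
    set y := φ v'.1 l0 * l0
    have hy1 : φ (x * p)⁻¹ y ∈ F := by
      have hmem : φ v.1 l0 * l0 ∈ fix φ (cj A p) := by
        rw [hpfix]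
        refine mem_fix_zpowers.mpr ?_
        rw [map_mul, ← apply_mul, v.2.1, apply_one, mul_comm]
      rw [cj, fix_map] at hmem
      obtain ⟨f, hf, he⟩ := hmem
      have he' : φ p f = φ v.1 l0 * l0 := he
      have hy : y = φ (x * p) f := by
        rw [apply_mul, he', map_mul]
        simp only [y]
        rw [hv'l0, (hsw v).2 l0 hl0 x hx, apply_eq_del φ x l0]
        ac_rfl
      rw [hy, apply_inv]
      exact hf
    have hy2 : φ (x * p)⁻¹ y ∈ fix φ (cj A ((x * p)⁻¹ * p')) := by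
      have hmem : y ∈ fix φ (cj A p') := by
        rw [hp'fix]
        refine mem_fix_zpowers.mpr ?_
        rw [map_mul, ← apply_mul, v'.2.1, apply_one, mul_comm]
      rw [← cj_cj, cj, fix_map]
      exact ⟨y, hmem, rfl⟩
    have hy3 : φ (x * p)⁻¹ y = 1 := Subgroup.mem_bot.mp (h0 ▸ ⟨hy1, hy2⟩)
    have hy4 : y = 1 := (φ (x * p)⁻¹).injective (hy3.trans (map_one _).symm)
    exact hl01 (huniq ((hsw v').2 l0 hl0) F.one_mem hl0 F'.one_mem (hy4.trans (one_mul (1 : V)).symm)).2
  have hx1 : x ≠ 1 := by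
    rintro rfl
    rw [one_mul] at hxp
    have hm : p⁻¹ * (v.1 * v'.1) * p ∈ A := mem_cj.mp ((cj A p).mul_mem hpv (hxp.symm ▸ hpv'))
    set e := v.1 * v'.1 with he
    have heM : e ∈ M := by
      have h1 : v.1⁻¹ * u ∈ M := by
        have := M.inv_mem v.2.2.2; rwa [mul_inv_rev, inv_inv] at this
      have h2 := M.mul_mem h1 v'.2.2.2
      rwa [mul_assoc, mul_inv_cancel_left, inv_eq_of_mul_eq_one_right v.2.1] at h2
    have he2 : e * e = 1 := by
      have h3 := hti.sq _ hm
      rw [show p⁻¹ * e * p * (p⁻¹ * e * p) = p⁻¹ * (e * e) * p by group] at h3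
      exact (MulAut.conj p⁻¹).injective (by simpa using h3)
    have he1 : e ≠ 1 := fun e1 => hne (Subtype.ext (by
      have h4 : v'.1 = v.1⁻¹ := (inv_eq_of_mul_eq_one_right e1).symm
      rw [h4, inv_eq_of_mul_eq_one_right v.2.1]))
    exact hp (M.inv_mem_iff.mp (hti.mem_M (g := p⁻¹) (h.inv_mem he2 heM) he1
      (by rw [inv_inv]; exact hti.le hm)))
  have hdiff : ∀ l ∈ F', φ v'.1 l = φ v.1 l * del φ x l := by
    intro l hl
    have h1 : φ v.1 l * del φ x l * l ∈ fix φ (Subgroup.zpowers v'.1) := by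
      rw [← hp'fix, ← hxp, ← cj_cj, cj, fix_map]
      refine ⟨φ v.1 l * l, ?_, ?_⟩
      · show φ v.1 l * l ∈ fix φ (cj A p)
        rw [hpfix]
        refine mem_fix_zpowers.mpr ?_
        rw [map_mul, ← apply_mul, v.2.1, apply_one, mul_comm]
      · show φ x (φ v.1 l * l) = _
        rw [map_mul, (hsw v).2 l hl x hx, apply_eq_del φ x l, mul_assoc]
    have h2 : φ v'.1 (φ v.1 l * del φ x l * l) = φ v.1 l * del φ x l * l := mem_fix_zpowers.mp h1
    rw [map_mul, mul_comm (φ v'.1 (φ v.1 l * del φ x l))] at h2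
    exact (huniq ((hsw v').2 l hl) (F.mul_mem ((hsw v).2 l hl) (hdelF x hx l))
      ((hsw v').1 _ (F.mul_mem ((hsw v).2 l hl) (hdelF x hx l))) hl h2).1
  -- the operators on `F'`
  let op : X → F' →* F' := fun y =>
    if hy : y ∈ A then
      { toFun := fun l => ⟨φ v.1 (del φ y l), (hsw v).1 _ (hdelF y hy l)⟩
        map_one' := Subtype.ext (by simp [map_one])
        map_mul' := fun l l' => Subtype.ext (by simp [map_mul]) }
    else 1
  have hop : ∀ {y : X}, y ∈ A → ∀ l : F', ((op y l : F') : V) = φ v.1 (del φ y l) := fun {y} hy l => by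
    simp only [op, dif_pos hy]
    rfl
  set z := op x
  have hadd : ∀ {y y' : X}, y ∈ A → y' ∈ A → ∀ l : F', op (y * y') l = op y l * op y' l := by
    intro y y' hy hy' l
    refine Subtype.ext ?_
    rw [Subgroup.coe_mul, hop (A.mul_mem hy hy'), hop hy, hop hy', del_mul, hquad y hy y' hy', mul_one, map_mul]
  set d := v'.1 * v.1
  have hdM : d ∈ M := by
    have h1 : v'.1⁻¹ * u ∈ M := by have := M.inv_mem v'.2.2.2; rwa [mul_inv_rev, inv_inv] at this
    have h2 := M.mul_mem h1 v.2.2.2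
    rwa [mul_assoc, mul_inv_cancel_left, inv_eq_of_mul_eq_one_right v'.2.1] at h2
  have hdinv : d⁻¹ = v.1 * v'.1 := by
    rw [mul_inv_rev, inv_eq_of_mul_eq_one_right v.2.1, inv_eq_of_mul_eq_one_right v'.2.1]
  have hdl : ∀ l : F', φ d⁻¹ l = ((l : F') : V) * (z l : V) := fun l => by
    rw [hdinv, apply_mul, hdiff l l.2, map_mul, hop hx, ← apply_mul, v.2.1, apply_one]
  have htw : ∀ {y : X}, y ∈ A → ∀ l : F', op (d * y * d⁻¹) l = op y (l * z l) * z (op y (l * z l)) := by
    intro y hy l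
    refine Subtype.ext ?_
    set l1 := l * z l
    set k := op y l1 with hk
    have hk' : φ v.1 (k : V) = del φ y (l1 : V) := by
      rw [hk, hop hy, ← apply_mul, v.2.1, apply_one]
    have h1 : del φ (d * y * d⁻¹) (l : V) = φ d (del φ y (φ d⁻¹ (l : V))) := by
      rw [del_apply, del_apply, map_mul (φ d), map_inv (φ d), apply_inv', ← apply_mul, ← apply_mul]
    have hl1 : φ d⁻¹ (l : V) = (l1 : V) := by rw [hdl]; rfl
    rw [Subgroup.coe_mul, hop (hti.conj_mem hdM hy), h1, hl1, ← hk', ← apply_mul, ← apply_mul,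
      show v.1 * d * v.1 = v.1 * v'.1 * (v.1 * v.1) by simp only [d]; group, v.2.1, mul_one, apply_mul,
      hdiff k k.2, map_mul, ← apply_mul, v.2.1, apply_one, hop hx]
  have hzz : ∀ {y : X}, y ∈ A → (∀ l, op y (z l) = z (op y l)) →
      ∃ y' ∈ A, ∀ l, op y' l = op y (z (z l)) := by
    intro y hy hc
    refine ⟨(d * y * d⁻¹) * y, A.mul_mem (hti.conj_mem hdM hy) hy, fun l => ?_⟩
    rw [hadd (hti.conj_mem hdM hy) hy, htw hy, map_mul, map_mul, ← hc, ← hc]
    have he : ∀ a b c : F', a * b * (b * c) * a = c := fun a b c => by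
      rw [show a * b * (b * c) * a = (a * a) * (b * b) * c by ac_rfl, (hV2.subgroup F') a, (hV2.subgroup F') b,
        one_mul, one_mul]
    exact he _ _ _
  have hodd : ∀ j : ℕ, ∃ y ∈ A, ∀ l, op y l = z^[2 * j + 1] l := by
    intro j
    induction j with
    | zero => exact ⟨x, hx, fun l => rfl⟩
    | succ j ih =>
      obtain ⟨y, hy, hyz⟩ := ih
      obtain ⟨y', hy', hy'z⟩ := hzz hy fun l => by
        rw [hyz, hyz, ← Function.iterate_succ_apply, Function.iterate_succ_apply']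
      refine ⟨y', hy', fun l => ?_⟩
      rw [hy'z, hyz, show 2 * (j + 1) + 1 = 2 * j + 1 + 2 by omega, Function.iterate_add_apply]
      rfl
  -- injectivity
  have hinj : Function.Injective z := by
    rw [injective_iff_map_eq_one]
    intro l hl
    have h1 : del φ x (l : V) = 1 := (φ v.1).injective (by
      rw [← hop hx, show op x l = 1 from hl, Subgroup.coe_one, map_one])
    by_contra hl1
    have hl1' : (l : V) ≠ 1 := fun e => hl1 (Subtype.ext e)
    let S : Subgroup X := ((MulAction.stabilizer (MulAut V) (l : V)).comap φ)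
    have hS : S.comap (MulAut.conj u).toMonoidHom = ⊤ := h.max _ (fun y hy => l.2 _ (conj_mem_cj hy)) fun hle =>
      hti.inf_M_eq_of_conj hx hx1 huM (hle (show φ (u * (u * x * u⁻¹) * u⁻¹) (l : V) = l by
        rw [hui, show u * (u * x * u) * u = (u * u) * x * (u * u) by group, hu, one_mul, mul_one,
          (del_eq_one φ).mp h1]))
    have hfix : (l : V) ∈ fix φ ⊤ := fun g _ => by
      have h1 : u⁻¹ * g * u ∈ S.comap (MulAut.conj u).toMonoidHom := hS ▸ Subgroup.mem_top _
      have h2 : φ (u * (u⁻¹ * g * u) * u⁻¹) (l : V) = l := h1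
      rwa [show u * (u⁻¹ * g * u) * u⁻¹ = g by group] at h2
    rw [fix_top_eq_bot h.rep.inj h.irr ⟨a₁, ha₁1⟩] at hfix
    exact hl1' (Subgroup.mem_bot.mp hfix)
  -- the order
  let e : Equiv.Perm F' := Equiv.ofBijective z ⟨hinj, Finite.injective_iff_surjective.mp hinj⟩
  obtain ⟨s, k, hk, hord⟩ : ∃ s k, Odd k ∧ orderOf e = 2 ^ s * k := by
    obtain ⟨s, k, hk, h'⟩ := Nat.exists_eq_pow_mul_and_not_dvd (orderOf_pos e).ne' 2 (by norm_num)
    exact ⟨s, k, Nat.not_even_iff_odd.mp fun he => hk (even_iff_two_dvd.mp he), h'⟩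
  obtain ⟨j, rfl⟩ := hk
  obtain ⟨y, hy, hyz⟩ := hodd j
  have hper : ∀ l, (op y)^[2 ^ s] l = l := fun l => by
    have hfun : (op y : F' → F') = (e : F' → F')^[2 * j + 1] := funext fun w => hyz w
    rw [hfun, ← Function.iterate_mul, mul_comm, ← hord]
    have h1 := DFunLike.congr_fun (pow_orderOf_eq_one e) l
    rwa [Equiv.Perm.coe_pow] at h1
  obtain ⟨l, hl1, hl⟩ := exists_fixed_of_two_pow (hV2.subgroup F') (op y) hper (w0 := ⟨l0, hl0⟩)
    (fun he => hl01 (congrArg Subtype.val he))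
  have hyl : del φ y (l : V) = φ v.1 (l : V) := by
    conv_rhs => rw [← hl, hop hy, ← apply_mul, v.2.1, apply_one]
  have hyy : y * y = 1 := hti.sq y hy
  set f := φ v.1 (l : V) with hf
  have hfl : φ v.1 f = l := by rw [hf, ← apply_mul, v.2.1, apply_one]
  refine tri φ hV2 h.rep.noS3 (x := y) (y := v.1) hyy v.2.1 (v := f)
    (fun he => hl1 (Subtype.ext ((φ v.1).injective (he.trans (map_one _).symm)))) ((hsw v).2 l l.2 y hy) ?_
  rw [hfl, apply_eq_del, hyl, mul_comm]

end OP

end CfsgLib.SFreeW
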