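import Cfsg.Agent.Lib.SFreeW.MainTI.TwoPoint
import Cfsg.Agent.Lib.SFreeW.MainTI.Swappers
import Cfsg.Agent.NumberTheory.PrimitivePart

/-!
A TI subgroup `A` of a group without a section `S₃` acting cubically and faithfully: the fixed points of `A` have
codimension at least `2 * dim A`.
-/

set_option autoImplicit false
set_option linter.unusedSectionVars false
set_option linter.style.haveILetI false

namespace CfsgLib.SFreeW

open CfsgLib.Fusion.SFreeFF CfsgLib.Fusion.CentralOffender

universe u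

theorem three_dvd_of_even {a : ℕ} (ha : Even a) : 3 ∣ 2 ^ a - 1 := by
  obtain ⟨k, rfl⟩ := ha
  rw [← two_mul, pow_mul]
  simpa using Nat.sub_dvd_pow_sub_pow 4 1 k

namespace OP

variable {X V : Type u} [Group X] [Finite X] [CommGroup V] [Finite V] {φ : X →* MulAut V} {A M : Subgroup X}

theorem false_one (h : OP φ A M) (h1 : dl A = 1)
    (hsmall : dl (⊤ : Subgroup V) < 2 * dl A + dl (fix φ A)) : False := by
  classical
  have hti := h.rep.ti
  have hV2 := h.rep.exp
  obtain ⟨x, hx, hx1⟩ := hti.exists_ne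
  have hA : ∀ y ∈ A, y = 1 ∨ y = x := by
    intro y hy
    by_contra hc
    push Not at hc
    have hle : Nat.card ({1, x, y} : Set X) ≤ Nat.card A := Nat.card_mono (Set.toFinite _) (by
      rintro z (rfl | rfl | rfl)
      exacts [A.one_mem, hx, hy])
    rw [h.rep.card_sub le_rfl, h1, Nat.card_coe_set_eq, Set.ncard_insert_of_notMem (by simp [Ne.symm hx1, Ne.symm hc.1]),
      Set.ncard_pair (Ne.symm hc.2)] at hle
    norm_num at hle
  obtain ⟨u, hu, huM⟩ := h.exists_outer
  have hui : u⁻¹ = u := inv_eq_of_mul_eq_one_right hu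
  set F := fix φ A
  set F' := fix φ (cj A u)
  have hFne : F ≠ ⊥ := exists_fixed hti.isPGroup hV2 fun hc => hx1 (h.rep.inj (MulEquiv.ext fun v => by
    haveI := (Nat.card_eq_one_iff_unique.1 hc).1
    exact Subsingleton.elim _ _))
  have hinter : F ⊓ F' = ⊥ := h.fix_inter huM
  have hF'dl : dl F' = dl F := by
    show dl (fix φ (cj A u)) = dl F
    rw [cj, fix_map, dl, dl, Subgroup.card_map_of_injective (φ u).injective]
  have hf : dl F ≤ 1 := by
    have h2 := dl_sup_add_inf hV2 F F'
    rw [hinter, dl_bot] at h2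
    have := dl_mono (le_top : F ⊔ F' ≤ ⊤)
    have h3 : dl (⊤ : Subgroup V) < 2 * dl A + dl F := hsmall
    omega
  obtain ⟨v, hv, hv1⟩ : ∃ v ∈ F, v ≠ 1 := by
    by_contra hc
    push Not at hc
    exact hFne ((Subgroup.eq_bot_iff_forall _).mpr hc)
  have hFv : ∀ w ∈ F, w = 1 ∨ w = v := by
    intro w hw
    by_contra hc
    push Not at hc
    have hle : Nat.card ({1, v, w} : Set V) ≤ Nat.card F := Nat.card_mono (Set.toFinite _) (by
      rintro z (rfl | rfl | rfl)
      exacts [F.one_mem, hv, hw])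
    rw [card_eq_pow hV2, Nat.card_coe_set_eq, Set.ncard_insert_of_notMem (by simp [Ne.symm hv1, Ne.symm hc.1]),
      Set.ncard_pair (Ne.symm hc.2)] at hle
    have := Nat.pow_le_pow_right two_pos hf
    omega
  set v' := φ u v
  have hne : v' ≠ v := by
    intro he
    let S : Subgroup X := (MulAction.stabilizer (MulAut V) v).comap φ
    have hS : S = ⊤ := h.max S (fun y hy => hv y hy) fun hle => huM (hle he)
    have hb := fix_top_eq_bot h.rep.inj h.irr ⟨x, hx1⟩
    exact hv1 (Subgroup.mem_bot.mp (hb ▸ fun g _ => (hS ▸ Subgroup.mem_top g : g ∈ S)))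
  have hv'F : v' ∉ F := fun hm => by
    rcases hFv v' hm with he | he
    · exact hv1 ((φ u).injective (he.trans (map_one _).symm))
    · exact hne he
  have hd : del φ x v' ∈ F := by
    intro y hy
    rcases hA y hy with he | he
    · rw [he]; exact apply_one φ _
    · rw [he]
      refine (del_eq_one φ).mp ?_
      have h4 := del_mul φ x x v'
      rw [hti.sq x hx, hV2, one_mul, (del_eq_one φ).mpr (apply_one φ v')] at h4
      exact h4.symm
  rcases hFv _ hd with he | he
  · refine hv'F fun y hy => ?_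
    rcases hA y hy with hy' | hy'
    · rw [hy']; exact apply_one φ _
    · rw [hy']; exact (del_eq_one φ).mp he
  · exact tri φ hV2 h.rep.noS3 (hti.sq x hx) hu hv1 (hv x hx) (by
      show φ x v' = v' * v
      rw [apply_eq_del, he, mul_comm])

theorem false_even (h : OP φ A M) (h2 : 2 ≤ dl A) (he : Even (dl A)) : False := by
  obtain ⟨u, ρ, hu, huM, -, ho, hinv⟩ := h.exists_inverted h2 Nat.prime_three (three_dvd_of_even he)
  obtain ⟨e⟩ := Cfsg.Agent.S2759.perm_three_equiv
  haveI : Fact (Nat.Prime 3) := ⟨Nat.prime_three⟩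
  refine h.rep.noS3 (Cfsg.Agent.S2759.involves_congr e.symm (CfsgLib.LocalEven.InvolvesDihedral.involves_of_inverted
    (p := 3) (by norm_num) (x := u) (y := ρ) ⟨1, ?_⟩ ⟨1, by rw [ho, pow_one]⟩
    (fun h1 => by rw [h1, orderOf_one] at ho; norm_num at ho) ?_))
  · rw [pow_one]
    exact orderOf_eq_prime (by rw [pow_two]; exact hu) fun h1 => huM (h1 ▸ M.one_mem)
  · rw [inv_eq_of_mul_eq_one_right hu]
    exact hinv

end OP

/-- The theorem. -/
theorem main_ti (n : ℕ) : Below.{u} n := by
  induction n with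
  | zero => intro X V _ _ _ _ φ A M h; omega
  | succ n ih =>
    intro X V _ _ _ _ φ A M hn h
    obtain ⟨L, ⟨hAL, hLM⟩, hLmin⟩ := Set.exists_min_image {L : Subgroup X | A ≤ L ∧ ¬ L ≤ M}
      (fun L => Nat.card L) (Set.toFinite _) ⟨⊤, le_top, fun hle => h.M_ne_top (top_le_iff.mp hle)⟩
    obtain ⟨a, ha, ha1⟩ := h.ti.exists_ne
    obtain ⟨W0, W1, hf⟩ := h.fac_exists hLM ha ha1 (hAL ha)
    have hAi : A ⊓ L = A := inf_eq_left.mpr hAL
    by_cases hsm : L = ⊤ ∧ W0 = ⊥ ∧ W1 = ⊤
    swap
    · have hsize : Nat.card L + W0.relIndex W1 < n := by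
        have h1 : Nat.card L ≤ Nat.card X := Subgroup.card_le_card_group L
        have hrel : Nat.card W0 * W0.relIndex W1 = Nat.card W1 := by
          have := Subgroup.relIndex_mul_relIndex (⊥ : Subgroup V) W0 W1 bot_le hf.le
          rwa [Subgroup.relIndex_bot_left, Subgroup.relIndex_bot_left] at this
        have hW1 : Nat.card W1 ≤ Nat.card V := Subgroup.card_le_card_group W1
        have hpos : 0 < Nat.card W0 := Nat.card_pos
        have hrel' : W0.relIndex W1 ≤ Nat.card W1 := by
          rw [← hrel]; exact Nat.le_mul_of_pos_left _ hpos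
        by_cases hL : L = ⊤
        · rcases eq_or_ne W0 ⊥ with h0 | h0
          · have h2 : W1 ≠ ⊤ := fun he => hsm ⟨hL, h0, he⟩
            have h3 : Nat.card W1 < Nat.card V :=
              lt_of_le_of_ne hW1 fun he => h2 (Subgroup.eq_top_of_card_eq W1 he)
            omega
          · have h2 : 2 ≤ Nat.card W0 := (Subgroup.one_lt_card_iff_ne_bot W0).mpr h0
            have h3 : 0 < Nat.card W1 := Nat.card_pos
            have h5 : 0 < W0.relIndex W1 := by
              rcases Nat.eq_zero_or_pos (W0.relIndex W1) with he | he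
              · rw [he, mul_zero] at hrel; omega
              · exact he
            have h4 := Nat.mul_le_mul_right (W0.relIndex W1) h2
            omega
        · have h2 : Nat.card L < Nat.card X := lt_of_le_of_ne h1 fun he => hL (Subgroup.eq_top_of_card_eq L he)
          omega
      have hd := h.descend ih (hAi.symm ▸ h.ti.ne) hLM (fun L' h1 h2 h3 =>
        Subgroup.eq_of_le_of_card_ge h1 (hLmin L' ⟨hAi ▸ h2, h3⟩)) hf hsize
      rw [hAi] at hd
      have h1 := cd_le h.exp φ A (le_top : W1 ≤ ⊤)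
      rw [inf_top_eq] at h1
      have h2 : dl (fix φ A ⊓ W0) ≤ dl W0 := dl_mono inf_le_right
      omega
    obtain ⟨rfl, rfl, rfl⟩ := hsm
    have hmax : ∀ L, A ≤ L → ¬ L ≤ M → L = ⊤ := fun L h1 h2 =>
      Subgroup.eq_of_le_of_card_ge le_top (hLmin L ⟨h1, h2⟩)
    have hirr : Irred φ := fun U hU => hf.irr U bot_le le_top fun l _ u hu => hU l u hu
    by_cases htwo : ∃ t ∈ M, t * t = 1 ∧ t ≠ 1 ∧ ¬ Subgroup.centralizer ({t} : Set X) ≤ M
    · obtain ⟨t, ht, ht2, ht1, htC⟩ := htwo
      exact h.two_point ih (Nat.lt_succ_iff.mp hn) hmax hirr ht ht2 ht1 htC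
    push Not at htwo
    have hop : OP φ A M := ⟨h, hmax, hirr, fun t ht ht2 ht1 y hy =>
      htwo t ht ht2 ht1 (Subgroup.mem_centralizer_singleton_iff.mpr hy)⟩
    by_contra hlt
    have hsmall : dl (⊤ : Subgroup V) < 2 * dl A + dl (fix φ A) := not_le.mp hlt
    have hpos : 0 < dl A := Nat.pos_of_ne_zero fun he =>
      h.ti.ne (Subgroup.card_eq_one.mp (by rw [h.card_sub le_rfl, he, pow_zero]))
    by_cases h1 : dl A = 1
    · exact hop.false_one h1 hsmall
    have h2 : 2 ≤ dl A := by omega
    by_cases he : Even (dl A)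
    · exact hop.false_even h2 he
    have hodd := Nat.not_even_iff_odd.mp he
    obtain ⟨r, hr, hrd, hprim⟩ := CfsgLib.NT.exists_primitive_prime (q := 2) le_rfl h2
      (fun hc => he ⟨3, hc.2⟩) (fun hc => he ⟨1, hc.1⟩)
    obtain ⟨u, ρ, hu, huM, hρM, ho, hinv⟩ := hop.exists_inverted h2 hr hrd
    exact hop.false_of_quadratic h2 hsmall (RhoData.quadratic
      ⟨hop, h2, hodd, hsmall, hu, huM, hρM, hr, ho, hinv, fun k hk =>
        (CfsgLib.NT.primitive_dvd_pow_sub_one_iff (by norm_num) (by omega) hrd hprim).mp hk⟩)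

/-- The bound on the codimension of the fixed points. -/
theorem two_mul_dl_le_codim {X V : Type u} [Group X] [Finite X] [CommGroup V] [Finite V] {φ : X →* MulAut V}
    {A M : Subgroup X} (h : Rep φ A M) : 2 * dl A + dl (fix φ A) ≤ dl (⊤ : Subgroup V) :=
  main_ti (Nat.card X + Nat.card V + 1) X V φ A M (Nat.lt_succ_self _) h

end CfsgLib.SFreeW
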