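import Cfsg.Agent.Lib.SFreeW.MainTI.Setup
import Cfsg.Agent.Lib.LocalEven.BenderTransitive.Main

/-!
All involutions of `M` are one-point: the points and the swappers.
-/

set_option autoImplicit false
set_option linter.unusedSectionVars false
set_option linter.style.haveILetI false

namespace CfsgLib.SFreeW

open CfsgLib.Fusion.SFreeFF CfsgLib.Fusion.CentralOffender

universe u

/-- The hypotheses of the one-point case. -/
structure OP {X V : Type u} [Group X] [CommGroup V] (φ : X →* MulAut V) (A M : Subgroup X) : Prop where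
  rep : Rep φ A M
  max : ∀ L, A ≤ L → ¬ L ≤ M → L = ⊤
  irr : Irred φ
  one : ∀ t ∈ M, t * t = 1 → t ≠ 1 → OnePoint M t

namespace OP

variable {X V : Type u} [Group X] [Finite X] [CommGroup V] [Finite V] {φ : X →* MulAut V} {A M : Subgroup X}

theorem exists_outer (h : OP φ A M) : ∃ u, u * u = 1 ∧ u ∉ M := by
  obtain ⟨a, ha, ha1⟩ := h.rep.ti.exists_ne
  obtain ⟨g, -, hg⟩ := SetLike.exists_of_lt (lt_top_iff_ne_top.mpr h.rep.M_ne_top)
  refine ⟨g * a * g⁻¹, ?_, h.rep.ti.inf_M_eq_of_conj ha ha1 hg⟩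
  rw [show g * a * g⁻¹ * (g * a * g⁻¹) = g * (a * a) * g⁻¹ by group, h.rep.ti.sq a ha, mul_one, mul_inv_cancel]

/-- An involution commuting with two involutions outside and inside `M`. -/
theorem odd_mul (h : OP φ A M) {e v : X} (he : e * e = 1) (he1 : e ≠ 1) (heM : e ∈ M) (hv : v * v = 1)
    (hvM : v ∉ M) : ∃ k, (e * v) ^ (2 * k + 1) = 1 := by
  rcases Nat.even_or_odd' (orderOf (e * v)) with ⟨k, hk | hk⟩
  · exfalso
    set w := e * v with hw
    have hk0 : 0 < k := by have := orderOf_pos w; omega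
    set y := w ^ k with hy
    have hy1 : y ≠ 1 := pow_ne_one_of_lt_orderOf (by omega) (by omega)
    have hy2 : y * y = 1 := by rw [hy, ← pow_add, ← two_mul, ← hk, pow_orderOf_eq_one]
    have hey : y * e = e * y := by
      have := dihedral_pow he hv k
      rw [← hw, ← hy, inv_eq_of_mul_eq_one_right hy2] at this
      calc y * e = e * y * e * e := by rw [this]
        _ = e * y := by rw [mul_assoc, he, mul_one]
    have hyM : y ∈ M := h.one e heM he he1 y hey
    have hwy : y * w = w * y := (Commute.pow_self w k).eq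
    have hvy : v * y = y * v := by
      have hv' : v = e * w := by rw [hw, ← mul_assoc, he, one_mul]
      rw [hv', mul_assoc, ← hwy, ← mul_assoc, ← hey, mul_assoc]
    exact hvM (h.one y hyM hy2 hy1 v hvy)
  · exact ⟨k, by rw [← hk, pow_orderOf_eq_one]⟩

theorem inv_mem (h : OP φ A M) {e : X} (he : e * e = 1) (heM : e ∈ M) : e ∈ A := by
  by_cases he1 : e = 1
  · exact he1 ▸ A.one_mem
  obtain ⟨a, ha, ha1⟩ := h.rep.ti.exists_ne
  obtain ⟨g, -, hg⟩ := SetLike.exists_of_lt (lt_top_iff_ne_top.mpr h.rep.M_ne_top)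
  have hv2 : g * a * g⁻¹ * (g * a * g⁻¹) = 1 := by
    rw [show g * a * g⁻¹ * (g * a * g⁻¹) = g * (a * a) * g⁻¹ by group, h.rep.ti.sq a ha, mul_one, mul_inv_cancel]
  obtain ⟨k, hk⟩ := h.odd_mul he he1 heM hv2 (h.rep.ti.inf_M_eq_of_conj ha ha1 hg)
  have hconj := conj_of_odd he hv2 hk
  set w := (e * (g * a * g⁻¹)) ^ k
  have hv : w⁻¹ * g * a * (w⁻¹ * g)⁻¹ = e := by
    rw [show w⁻¹ * g * a * (w⁻¹ * g)⁻¹ = w⁻¹ * (g * a * g⁻¹) * w by group, ← hconj]
    group
  rw [← hv]
  exact h.rep.ti.mem a ha _ (hv.symm ▸ heM)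

theorem inv_conj (h : OP φ A M) {a : X} (ha : a ∈ A) (ha1 : a ≠ 1) {v : X} (hv : v * v = 1) (hvM : v ∉ M) :
    ∃ l, l ∉ M ∧ l * a * l⁻¹ = v := by
  obtain ⟨k, hk⟩ := h.odd_mul (h.rep.ti.sq a ha) ha1 (h.rep.ti.le ha) hv hvM
  exact ⟨_, fun hl => hvM (conj_of_odd (h.rep.ti.sq a ha) hv hk ▸ h.rep.ti.le (h.rep.ti.conj_mem hl ha)),
    conj_of_odd (h.rep.ti.sq a ha) hv hk⟩

theorem fix_inter (h : OP φ A M) {g : X} (hg : g ∉ M) : fix φ A ⊓ fix φ (cj A g) = ⊥ := by
  obtain ⟨a, ha, ha1⟩ := h.rep.ti.exists_ne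
  refine (Subgroup.eq_bot_iff_forall _).mpr fun v hv => ?_
  let S : Subgroup X := (MulAction.stabilizer (MulAut V) v).comap φ
  have hS : S = ⊤ := h.max S (fun b hb => hv.1 b hb) fun hle =>
    h.rep.ti.inf_M_eq_of_conj ha ha1 hg (hle (hv.2 _ (conj_mem_cj ha)))
  have hb := fix_top_eq_bot h.rep.inj h.irr ⟨a, ha1⟩
  exact Subgroup.mem_bot.mp (hb ▸ fun x _ => (hS ▸ Subgroup.mem_top x : x ∈ S))

/-- The involutions moving the point `M` as `g` does. -/
def Sw (M : Subgroup X) (g : X) : Type u := {v : X // v * v = 1 ∧ v ∉ M ∧ g⁻¹ * v ∈ M}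

instance (M : Subgroup X) (g : X) : Finite (Sw M g) := Subtype.finite

theorem card_sw_le (h : OP φ A M) (h2 : 2 ≤ dl A) {g g' : X} (hg : g ∉ M) (hg' : g' ∉ M) :
    Nat.card (Sw M g) ≤ Nat.card (Sw M g') := by
  have hse : Cfsg.IsStronglyEmbedded M := by
    refine ⟨h.rep.M_ne_top, ?_, fun x hx => ?_⟩
    · obtain ⟨a, ha, ha1⟩ := h.rep.ti.exists_ne
      exact Involution.Basic.even_of_involution_mem M (h.rep.ti.le ha)
        (orderOf_eq_prime (by rw [pow_two]; exact h.rep.ti.sq a ha) ha1)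
    · refine Nat.not_even_iff_odd.mp fun hev => ?_
      obtain ⟨e, he, ho⟩ := Involution.Basic.exists_involution_of_even _ hev
      obtain ⟨heM, m, hm, hme⟩ := Subgroup.mem_inf.mp he
      have he2 : e * e = 1 := by rw [← pow_two, ← ho, pow_orderOf_eq_one]
      have hm2 : m * m = 1 := (MulAut.conj x).injective (by rw [map_mul, map_one]; exact hme ▸ he2)
      have hm1 : m ≠ 1 := fun e' => by
        rw [← hme, e'] at ho
        simp at ho
      refine hx (h.rep.ti.mem_M (h.inv_mem hm2 hm) hm1 ?_)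
      rw [show x * m * x⁻¹ = e from hme]
      exact heM
  obtain ⟨x, hx, y, hy, hxy, hx1, hy1⟩ : ∃ x ∈ A, ∃ y ∈ A, x ≠ y ∧ x ≠ 1 ∧ y ≠ 1 := by
    obtain ⟨x, hx, hx1⟩ := h.rep.ti.exists_ne
    by_contra hc
    push Not at hc
    have hA : (A : Set X) ⊆ {1, x} := fun y hy => by
      by_cases hy1 : y = 1
      · exact Or.inl hy1
      · exact Or.inr (by by_contra hne; exact hy1 (hc x hx y hy (fun e => hne e.symm) hx1))
    have hle : Nat.card A ≤ 2 := le_trans (Nat.card_mono (Set.toFinite _) hA) (by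
      rw [Nat.card_coe_set_eq]; exact (Set.ncard_insert_le _ _).trans (by rw [Set.ncard_singleton]))
    rw [h.rep.card_sub le_rfl] at hle
    have : dl A ≤ 1 := (Nat.pow_le_pow_iff_right one_lt_two).mp (by simpa using hle)
    omega
  obtain ⟨m, hm, hmg⟩ := LocalEven.BenderTransitive.exists_smul_mem hse
    ⟨x, y, orderOf_eq_prime (by rw [pow_two]; exact h.rep.ti.sq x hx) hx1,
      orderOf_eq_prime (by rw [pow_two]; exact h.rep.ti.sq y hy) hy1, hxy, h.rep.ti.comm x hx y hy⟩ g g' hg hg'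
  refine Nat.card_le_card_of_injective (fun v : Sw M g => (⟨m * v.1 * m⁻¹, ?_, ?_, ?_⟩ : Sw M g'))
    fun v w e => Subtype.ext ((MulAut.conj m).injective (congrArg Subtype.val e))
  · rw [show m * v.1 * m⁻¹ * (m * v.1 * m⁻¹) = m * (v.1 * v.1) * m⁻¹ by group, v.2.1, mul_one, mul_inv_cancel]
  · exact fun hv => v.2.2.1 (by simpa [mul_assoc] using M.mul_mem (M.mul_mem (M.inv_mem hm) hv) hm)
  · rw [show g'⁻¹ * (m * v.1 * m⁻¹) = g'⁻¹ * (m * g) * (g⁻¹ * v.1) * m⁻¹ by group]
    exact M.mul_mem (M.mul_mem hmg v.2.2.2) (M.inv_mem hm)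

theorem card_sw (h : OP φ A M) (h2 : 2 ≤ dl A) {g : X} (hg : g ∉ M) :
    Nat.card (Sw M g) + 1 = 2 ^ dl A := by
  classical
  haveI := Fintype.ofFinite (X ⧸ M)
  set inv : Type u := {v : X // v * v = 1 ∧ v ≠ 1}
  set pt : Type u := {v : X // v ∈ A ∧ v ≠ 1}
  haveI : Fintype inv := Fintype.ofFinite _
  haveI : Fintype pt := Fintype.ofFinite _
  have hsq : ∀ (c : X ⧸ M) (a : pt), (c.out * a.1 * c.out⁻¹) * (c.out * a.1 * c.out⁻¹) = 1 := fun c a => by
    rw [show c.out * a.1 * c.out⁻¹ * (c.out * a.1 * c.out⁻¹) = c.out * (a.1 * a.1) * c.out⁻¹ by group,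
      h.rep.ti.sq _ a.2.1, mul_one, mul_inv_cancel]
  have hpt : Nat.card pt + 1 = 2 ^ dl A := by
    rw [← h.rep.card_sub le_rfl]
    haveI := Fintype.ofFinite A
    let e : pt ≃ {a : A // a ≠ 1} :=
      { toFun := fun a => ⟨⟨a.1, a.2.1⟩, fun e => a.2.2 (congrArg Subtype.val e)⟩
        invFun := fun a => ⟨a.1.1, a.1.2, fun e => a.2 (Subtype.ext e)⟩
        left_inv := fun _ => rfl
        right_inv := fun _ => rfl }
    rw [Nat.card_congr e, Nat.card_eq_fintype_card, Nat.card_eq_fintype_card, Fintype.card_subtype_compl,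
      Fintype.card_subtype_eq]
    have := Fintype.card_pos (α := A)
    omega
  -- every involution lies in one point
  let f : (X ⧸ M) × pt → inv := fun p => ⟨p.1.out * p.2.1 * p.1.out⁻¹, hsq p.1 p.2, fun e =>
    p.2.2.2 (conj_eq_one_iff.mp e)⟩
  have hf : Function.Bijective f := by
    constructor
    · rintro ⟨c, a⟩ ⟨c', a'⟩ e
      have e' : c.out * a.1 * c.out⁻¹ = c'.out * a'.1 * c'.out⁻¹ := congrArg Subtype.val e
      have hc : c = c' := by
        rw [← QuotientGroup.out_eq' c, ← QuotientGroup.out_eq' c', QuotientGroup.eq]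
        refine M.inv_mem_iff.mp (h.rep.ti.mem_M (g := (c.out⁻¹ * c'.out)⁻¹) a.2.1 a.2.2 ?_)
        rw [show (c.out⁻¹ * c'.out)⁻¹ * a.1 * ((c.out⁻¹ * c'.out)⁻¹)⁻¹ = c'.out⁻¹ * (c.out * a.1 * c.out⁻¹) * c'.out
          by group, e', show c'.out⁻¹ * (c'.out * a'.1 * c'.out⁻¹) * c'.out = a'.1 by group]
        exact h.rep.ti.le a'.2.1
      subst hc
      exact Prod.ext rfl (Subtype.ext ((MulAut.conj c.out).injective e'))
    · rintro ⟨v, hv, hv1⟩
      have key : ∀ (l a : X), a ∈ A → a ≠ 1 → l * a * l⁻¹ = v → ∃ p, f p = ⟨v, hv, hv1⟩ := by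
        intro l a ha ha1 hl
        obtain ⟨m, hm⟩ := QuotientGroup.mk_out_eq_mul M l
        refine ⟨((l : X ⧸ M), ⟨(m : X)⁻¹ * a * m, ?_, ?_⟩), Subtype.ext ?_⟩
        · have := h.rep.ti.conj_mem (M.inv_mem m.2) ha; rwa [inv_inv] at this
        · exact fun e => ha1 (by
            have e2 := congrArg (fun x => (m : X) * x * (m : X)⁻¹) e
            rwa [show (m : X) * ((m : X)⁻¹ * a * m) * (m : X)⁻¹ = a by group, mul_one, mul_inv_cancel] at e2)
        · show ((l : X ⧸ M).out) * ((m : X)⁻¹ * a * m) * ((l : X ⧸ M).out)⁻¹ = v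
          rw [hm, ← hl]
          group
      by_cases hvM : v ∈ M
      · exact key 1 v (h.inv_mem hv hvM) hv1 (by group)
      · obtain ⟨a, ha, ha1⟩ := h.rep.ti.exists_ne
        obtain ⟨l, -, hl⟩ := h.inv_conj ha ha1 hv hvM
        exact key l a ha ha1 hl
  have hinv : Fintype.card inv = Fintype.card (X ⧸ M) * Fintype.card pt := by
    rw [← Fintype.card_of_bijective hf, Fintype.card_prod]
  -- sort them by the image of the point `M`
  let o : X ⧸ M := ((1 : X) : X ⧸ M)
  have hfib : ∀ c : X ⧸ M, (Finset.univ.filter fun v : inv => ((v.1 : X) : X ⧸ M) = c).card =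
      if c = o then Fintype.card pt else Nat.card (Sw M g) := by
    intro c
    rw [← Fintype.card_subtype, ← Nat.card_eq_fintype_card]
    split_ifs with hc
    · rw [← Nat.card_eq_fintype_card]
      refine Nat.card_congr
        { toFun := fun v => ⟨v.1.1, h.inv_mem v.1.2.1 (by
            have := QuotientGroup.eq.mp (hc ▸ v.2 : ((v.1.1 : X) : X ⧸ M) = o)
            simpa using M.inv_mem this), v.1.2.2⟩
          invFun := fun a => ⟨⟨a.1, h.rep.ti.sq _ a.2.1, a.2.2⟩, by
            rw [hc]; exact QuotientGroup.eq.mpr (by simpa using M.inv_mem (h.rep.ti.le a.2.1))⟩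
          left_inv := fun _ => rfl
          right_inv := fun _ => rfl }
    · obtain ⟨x, rfl⟩ := QuotientGroup.mk_surjective c
      have hx : x ∉ M := fun hx => hc (QuotientGroup.eq.mpr (by simpa using hx))
      refine (Nat.card_congr
        { toFun := fun v => (⟨v.1.1, v.1.2.1, fun hv => hc (by
            rw [← v.2]; exact QuotientGroup.eq.mpr (by simpa using hv)),
            QuotientGroup.eq.mp v.2.symm⟩ : Sw M x)
          invFun := fun v => ⟨⟨v.1, v.2.1, fun e => v.2.2.1 (e.symm ▸ M.one_mem : v.1 ∈ M)⟩, (QuotientGroup.eq.mpr v.2.2.2).symm⟩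
          left_inv := fun _ => rfl
          right_inv := fun _ => rfl }).trans ?_
      exact le_antisymm (h.card_sw_le h2 hx hg) (h.card_sw_le h2 hg hx)
  have hsum := Finset.card_eq_sum_card_fiberwise (s := (Finset.univ : Finset inv)) (t := Finset.univ)
    (f := fun v => ((v.1 : X) : X ⧸ M)) fun _ _ => Finset.mem_coe.mpr (Finset.mem_univ _)
  rw [Finset.card_univ, hinv, Finset.sum_congr rfl (fun c _ => hfib c),
    ← Finset.add_sum_erase _ _ (Finset.mem_univ o), if_pos rfl,
    Finset.sum_congr rfl (fun c hc => if_neg (Finset.ne_of_mem_erase hc)), Finset.sum_const,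
    Finset.card_erase_of_mem (Finset.mem_univ o), Finset.card_univ, smul_eq_mul] at hsum
  have hn : 2 ≤ Fintype.card (X ⧸ M) := Fintype.one_lt_card_iff.mpr
    ⟨o, (g : X ⧸ M), fun e => hg (by simpa using QuotientGroup.eq.mp e)⟩
  obtain ⟨n, hn'⟩ : ∃ n, Fintype.card (X ⧸ M) = n + 2 := ⟨_, (Nat.sub_add_cancel hn).symm⟩
  rw [hn', show n + 2 - 1 = n + 1 by omega] at hsum
  have he : (n + 1) * Fintype.card pt = (n + 1) * Nat.card (Sw M g) := by
    rw [show n + 2 = (n + 1) + 1 from rfl, add_mul, one_mul] at hsum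
    omega
  rw [← Nat.eq_of_mul_eq_mul_left (by omega) he, ← Nat.card_eq_fintype_card, hpt]

/-- An element of prime order `r ∣ q - 1` of `M` inverted by an involution outside `M`. -/
theorem exists_inverted (h : OP φ A M) (h2 : 2 ≤ dl A) {r : ℕ} (hr : r.Prime) (hrd : r ∣ 2 ^ dl A - 1) :
    ∃ u ρ : X, u * u = 1 ∧ u ∉ M ∧ ρ ∈ M ∧ orderOf ρ = r ∧ u * ρ * u = ρ⁻¹ := by
  classical
  haveI : Fact r.Prime := ⟨hr⟩
  obtain ⟨u, hu, huM⟩ := h.exists_outer
  have hui : u⁻¹ = u := inv_eq_of_mul_eq_one_right hu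
  set D := M ⊓ cj M u
  have hD : ∀ {x : X}, x ∈ D → x ∈ M ∧ u * x * u ∈ M := fun {x} hx => by
    have h1 := mem_cj.mp hx.2
    rw [hui] at h1
    exact ⟨hx.1, h1⟩
  have hD' : ∀ {x : X}, x ∈ M → u * x * u ∈ M → x ∈ D := fun h1 h2 => ⟨h1, mem_cj.mpr (by rwa [hui])⟩
  have huD : ∀ {x : X}, x ∈ D → u * x * u ∈ D := fun {x} hx => hD' (hD hx).2 (by
    rw [show u * (u * x * u) * u = (u * u) * x * (u * u) by group, hu, one_mul, mul_one]; exact hx.1)
  have hodd : Odd (Nat.card D) := by
    refine Nat.not_even_iff_odd.mp fun hev => ?_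
    obtain ⟨e, he, ho⟩ := Involution.Basic.exists_involution_of_even D hev
    have he2 : e * e = 1 := by rw [← pow_two, ← ho, pow_orderOf_eq_one]
    have h1 := h.inv_mem he2 (hD he).1
    refine h.rep.ti.inf_M_eq_of_conj h1 (fun e' => by rw [e', orderOf_one] at ho; omega) huM ?_
    rw [hui]
    exact (hD he).2
  -- the automorphism and a fixed Sylow subgroup
  let σ : MulAut D :=
    { toFun := fun x => ⟨u * x * u, huD x.2⟩
      invFun := fun x => ⟨u * x * u, huD x.2⟩
      left_inv := fun x => Subtype.ext (show u * (u * x * u) * u = x by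
        rw [show u * (u * x * u) * u = (u * u) * x * (u * u) by group, hu, one_mul, mul_one])
      right_inv := fun x => Subtype.ext (show u * (u * x * u) * u = x by
        rw [show u * (u * x * u) * u = (u * u) * x * (u * u) by group, hu, one_mul, mul_one])
      map_mul' := fun x y => Subtype.ext (show u * (x * y) * u = u * x * u * (u * y * u) by
        rw [show u * (x : X) * u * (u * y * u) = u * x * (u * u) * y * u by group, hu]; group) }
  have hσ2 : ∀ P : Sylow r D, σ • σ • P = P := fun P => by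
    rw [smul_smul, show σ * σ = 1 from MulEquiv.ext fun x => σ.left_inv x, one_smul]
  obtain ⟨P, hP⟩ : ∃ P : Sylow r D, σ • P = P := by
    by_contra hc
    push Not at hc
    haveI := Fintype.ofFinite (Sylow r D)
    have hdvd : Nat.card (Sylow r D) ∣ Nat.card D := by
      rw [Sylow.card_eq_index_normalizer (default : Sylow r D)]
      exact Subgroup.index_dvd_card _
    have hoddS : Odd (Fintype.card (Sylow r D)) := by
      rw [← Nat.card_eq_fintype_card]; exact hodd.of_dvd_nat hdvd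
    let τ : Equiv.Perm (Sylow r D) := ⟨(σ • ·), (σ • ·), hσ2, hσ2⟩
    obtain ⟨P, hP⟩ := Equiv.Perm.exists_fixed_point_of_prime (p := 2) (n := 1) (σ := τ)
      (fun hd => Nat.not_even_iff_odd.mpr hoddS (even_iff_two_dvd.mpr hd)) (by
      rw [pow_one, pow_two]
      exact Equiv.ext fun Q => hσ2 Q)
    exact hc P hP
  have hPu : ∀ x ∈ (P : Subgroup D), σ x ∈ (P : Subgroup D) := by
    intro x hx
    have hmem : σ x ∈ ((σ • P : Sylow r D) : Subgroup D) := ⟨x, hx, rfl⟩
    rwa [hP] at hmem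
  by_cases hall : ∀ x ∈ (P : Subgroup D), σ x = x
  · exfalso
    set C := Subgroup.centralizer ({u} : Set X)
    have hcard : Nat.card (Sw M u) * Nat.card ↥(D ⊓ C) = Nat.card D := by
      let f : D → Sw M u := fun d => ⟨(d : X) * u * (d : X)⁻¹, by
          rw [show (d : X) * u * (d : X)⁻¹ * ((d : X) * u * (d : X)⁻¹) = d * (u * u) * (d : X)⁻¹ by group, hu,
            mul_one, mul_inv_cancel], fun hm => huM (by
          have := M.mul_mem (M.mul_mem (M.inv_mem (hD d.2).1) hm) (hD d.2).1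
          rwa [show (d : X)⁻¹ * ((d : X) * u * (d : X)⁻¹) * d = u by group] at this), by
          rw [hui, show u * ((d : X) * u * (d : X)⁻¹) = u * d * u * (d : X)⁻¹ by group]
          exact M.mul_mem (hD d.2).2 (M.inv_mem (hD d.2).1)⟩
      have hf : ∀ d e : D, f d = f e ↔ (d : D)⁻¹ * e ∈ C.subgroupOf D := by
        intro d e
        constructor
        · intro he
          have he' : (d : X) * u * (d : X)⁻¹ = (e : X) * u * (e : X)⁻¹ := congrArg Subtype.val he
          refine Subgroup.mem_centralizer_singleton_iff.mpr ?_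
          show (d : X)⁻¹ * e * u = u * ((d : X)⁻¹ * e)
          rw [show (d : X)⁻¹ * e * u = (d : X)⁻¹ * ((e : X) * u * (e : X)⁻¹) * e by group, ← he']
          group
        · intro he
          have he' : (d : X)⁻¹ * e * u = u * ((d : X)⁻¹ * e) := Subgroup.mem_centralizer_singleton_iff.mp he
          refine Subtype.ext ?_
          show (d : X) * u * (d : X)⁻¹ = (e : X) * u * (e : X)⁻¹
          rw [show (e : X) * u * (e : X)⁻¹ = d * ((d : X)⁻¹ * e * u) * (e : X)⁻¹ by group, he']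
          group
      have hbij : Function.Bijective (Quotient.lift f fun a b hab =>
          (hf a b).mpr (QuotientGroup.leftRel_apply.mp hab) : D ⧸ C.subgroupOf D → Sw M u) := by
        constructor
        · intro x y
          induction x using QuotientGroup.induction_on with
          | H x => induction y using QuotientGroup.induction_on with
            | H y => exact fun e => QuotientGroup.eq.mpr ((hf x y).mp e)
        · rintro ⟨v, hv, hvM, hvu⟩
          rw [hui] at hvu
          have hd : u * v ∈ D := hD' hvu (by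
            rw [show u * (u * v) * u = (u * u) * v * u by group, hu, one_mul, show v * u = (u * v)⁻¹ by
              rw [mul_inv_rev, hui, inv_eq_of_mul_eq_one_right hv]]
            exact M.inv_mem hvu)
          obtain ⟨k, hk⟩ : ∃ k, (u * v) ^ (2 * k + 1) = 1 := by
            have ho : Odd (orderOf (⟨u * v, hd⟩ : D)) := hodd.of_dvd_nat (orderOf_dvd_natCard _)
            obtain ⟨k, hk⟩ := ho
            refine ⟨k, ?_⟩
            have := congrArg Subtype.val (pow_orderOf_eq_one (⟨u * v, hd⟩ : D))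
            rwa [SubmonoidClass.coe_pow, hk] at this
          exact ⟨((⟨(u * v) ^ k, D.pow_mem hd k⟩ : D) : D ⧸ C.subgroupOf D),
            Subtype.ext (conj_of_odd hu hv hk)⟩
      have h1 := Subgroup.card_eq_card_quotient_mul_card_subgroup (C.subgroupOf D)
      rw [show Nat.card (D ⧸ C.subgroupOf D) = Nat.card (Sw M u) from Nat.card_eq_of_bijective _ hbij,
        ← Subgroup.inf_subgroupOf_left,
        Nat.card_congr (Subgroup.subgroupOfEquivOfLe (inf_le_left : D ⊓ C ≤ D)).toEquiv] at h1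
      exact h1.symm
    have hPC : Nat.card (P : Subgroup D) ∣ Nat.card ↥(D ⊓ C) := by
      have hle : (P : Subgroup D).map D.subtype ≤ D ⊓ C := by
        rintro _ ⟨x, hx, rfl⟩
        refine ⟨x.2, Subgroup.mem_centralizer_singleton_iff.mpr ?_⟩
        have hfix : u * (x : X) * u = x := congrArg Subtype.val (hall x hx)
        calc (x : X) * u = u * x * u * u := by rw [hfix]
          _ = u * x := by rw [mul_assoc, hu, mul_one]
      have := Subgroup.card_dvd_of_le hle
      rwa [Subgroup.card_map_of_injective D.subtype_injective] at this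
    obtain ⟨x, hx⟩ := hPC
    have hidx := (P : Subgroup D).card_mul_index
    rw [← hidx, hx, ← mul_assoc, mul_comm (Nat.card (Sw M u)), mul_assoc] at hcard
    have hidx' : Nat.card (Sw M u) * x = (P : Subgroup D).index :=
      Nat.eq_of_mul_eq_mul_left Nat.card_pos hcard
    have hq : Nat.card (Sw M u) = 2 ^ dl A - 1 := by have := h.card_sw h2 huM; omega
    exact P.not_dvd_index (hidx' ▸ dvd_mul_of_dvd_left (hq ▸ hrd) x)
  · push Not at hall
    obtain ⟨x, hx, hxu⟩ := hall
    set y := x * (σ x)⁻¹ with hy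
    have hyP : y ∈ (P : Subgroup D) := mul_mem hx ((P : Subgroup D).inv_mem (hPu x hx))
    have hy1 : y ≠ 1 := fun e => hxu (mul_inv_eq_one.mp e).symm
    have hyσ : σ y = y⁻¹ := by
      rw [hy, map_mul, map_inv, mul_inv_rev, inv_inv, σ.left_inv x |> fun e : σ (σ x) = x => e]
    obtain ⟨k, hk⟩ := IsPGroup.iff_orderOf.mp P.2 ⟨y, hyP⟩
    rw [Subgroup.orderOf_mk] at hk
    obtain ⟨j, rfl⟩ : ∃ j, k = j + 1 := Nat.exists_eq_succ_of_ne_zero fun e => hy1
      (orderOf_eq_one_iff.mp (by rw [hk, e, pow_zero]))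
    set z := y ^ r ^ j with hz
    have hzo : orderOf z = r := by
      rw [hz, orderOf_pow' y (pow_ne_zero _ hr.ne_zero), hk, Nat.gcd_eq_right (pow_dvd_pow r (Nat.le_succ j)),
        Nat.pow_div (Nat.le_succ j) hr.pos, show j + 1 - j = 1 by omega, pow_one]
    refine ⟨u, (z : X), hu, huM, (hD z.2).1, by rw [Subgroup.orderOf_coe, hzo], ?_⟩
    have hzσ : σ z = z⁻¹ := by rw [hz, map_pow, hyσ, inv_pow]
    exact congrArg Subtype.val hzσ

end OP

end CfsgLib.SFreeW
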