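import Cfsg.Agent.Lib.SFreeW.Pairing

/-!
The counting lemma for a quadratic map into functionals.
-/

set_option autoImplicit false
set_option linter.unusedSectionVars false
set_option linter.style.haveILetI false

namespace CfsgLib.SFreeW

open CfsgLib.Fusion.SFreeFF

universe u

theorem dl_quotient {V : Type*} [CommGroup V] [Finite V] (h : Exp2 V) (S : Subgroup V) :
    dl (⊤ : Subgroup (V ⧸ S)) + dl S = dl (⊤ : Subgroup V) := by
  have h1 := dl_map_add h (h.quotient S) (QuotientGroup.mk' S) ⊤
  rwa [Subgroup.map_top_of_surjective _ (QuotientGroup.mk'_surjective _), QuotientGroup.ker_mk', top_inf_eq] at h1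

theorem pol_one {W T : Type*} [CommGroup W] [CommGroup T] {q : W → T}
    (hq : ∀ x y z, pol q (x * y) z = pol q x z * pol q y z) (z : W) : pol q 1 z = 1 := by
  have h := hq 1 1 z
  rw [mul_one] at h
  exact mul_eq_left.mp h.symm

theorem apply_eq_pol {W T : Type*} [Mul W] [CommGroup T] (hT : Exp2 T) (q : W → T) (x y : W) :
    q (x * y) = pol q x y * (q x * q y) := by
  rw [pol, mul_assoc, hT, mul_one]

theorem two_mul_dl_le {G P Q : Type u} [CommGroup G] [Finite G] [CommGroup P] [Finite P] [CommGroup Q] [Finite Q]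
    (hG : Exp2 G) (hP : Exp2 P) (hQ : Exp2 Q) (g : G → P) (π : P →* Q) (hg1 : g 1 = 1)
    (hbi : ∀ x y z, pol g (x * y) z = pol g x z * pol g y z)
    (hrad : ∀ k, g k ∈ Subgroup.closure (Set.range fun p : G × G => pol g p.1 p.2) → ∀ y, pol g k y = 1)
    (hani : ∀ x, π (g x) = 1 → x = 1) :
    2 * dl (⊤ : Subgroup G) ≤ dl (⊤ : Subgroup P) + dl (⊤ : Subgroup Q) := by
  set M2 := Subgroup.closure (Set.range fun p : G × G => pol g p.1 p.2)
  have hpol : ∀ x y, pol g x y ∈ M2 := fun x y => Subgroup.subset_closure ⟨(x, y), rfl⟩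
  let g1 : G →* P ⧸ M2 :=
    { toFun := fun x => QuotientGroup.mk (g x)
      map_one' := by rw [hg1]; rfl
      map_mul' := fun x y => by
        rw [apply_eq_pol hP g, QuotientGroup.mk_mul, (QuotientGroup.eq_one_iff _).mpr (hpol x y), one_mul]
        rfl }
  set K2 := g1.ker
  have hK2 : ∀ k ∈ K2, g k ∈ M2 := fun k hk => (QuotientGroup.eq_one_iff _).mp hk
  have hadd : ∀ k ∈ K2, ∀ y, g (k * y) = g k * g y := fun k hk y => by
    rw [apply_eq_pol hP g, hrad k (hK2 k hk) y, one_mul]
  let gK : K2 →* P :=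
    { toFun := fun k => g k
      map_one' := hg1
      map_mul' := fun a b => hadd _ a.2 _ }
  set N2 := M2.map π
  let g2 : G →* Q ⧸ N2 :=
    { toFun := fun x => QuotientGroup.mk (π (g x))
      map_one' := by rw [hg1, map_one]; rfl
      map_mul' := fun x y => by
        rw [apply_eq_pol hP g, map_mul, map_mul, QuotientGroup.mk_mul,
          (QuotientGroup.eq_one_iff _).mpr (⟨_, hpol x y, rfl⟩ : π (pol g x y) ∈ N2), one_mul]
        rfl }
  set S := g2.ker
  have hSN : ∀ x ∈ S, π (g x) ∈ N2 := fun x hx => (QuotientGroup.eq_one_iff _).mp hx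
  have hKS : K2 ≤ S := fun k hk => (QuotientGroup.eq_one_iff _).mpr ⟨_, hK2 k hk, rfl⟩
  set E := (π.comp gK).range
  have hEN : E ≤ N2 := by
    rintro _ ⟨k, rfl⟩
    exact hSN k (hKS k.2)
  have hE : dl E = dl K2 := by
    have hinj : Function.Injective (π.comp gK) := by
      rw [← MonoidHom.ker_eq_bot_iff]
      exact (Subgroup.eq_bot_iff_forall _).mpr fun k hk => Subtype.ext (hani k hk)
    rw [dl, dl, ← Nat.card_congr (MonoidHom.ofInjective hinj).toEquiv]
  -- the anisotropic map
  let f : S ⧸ K2.subgroupOf S → N2 ⧸ E.subgroupOf N2 := Quotient.lift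
    (fun x : S => (QuotientGroup.mk (⟨π (g x), hSN x x.2⟩ : N2) : N2 ⧸ E.subgroupOf N2)) (by
      intro x y hxy
      have hk0 : x⁻¹ * y ∈ K2.subgroupOf S := QuotientGroup.leftRel_apply.mp hxy
      have hk : ((x⁻¹ * y : S) : G) ∈ K2 := hk0
      refine QuotientGroup.eq.mpr ?_
      refine Subgroup.mem_subgroupOf.mpr ⟨⟨_, hk⟩, ?_⟩
      show π (g ((x : G)⁻¹ * y)) = (π (g x))⁻¹ * π (g y)
      have h1 := hadd _ hk (x : G)
      simp only [Subgroup.coe_mul, InvMemClass.coe_inv] at h1
      rw [show (x : G)⁻¹ * y * x = y by rw [mul_comm, mul_inv_cancel_left]] at h1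
      rw [eq_inv_mul_iff_mul_eq, ← map_mul, h1, mul_comm])
  have hf : ∀ x : S, f (QuotientGroup.mk x) = QuotientGroup.mk (⟨π (g x), hSN x x.2⟩ : N2) := fun _ => rfl
  have han := anisotropic (W := S ⧸ K2.subgroupOf S) (T := N2 ⧸ E.subgroupOf N2) ((hG.subgroup S).quotient _)
    ((hQ.subgroup N2).quotient _) f (by
      intro x y z
      induction x using QuotientGroup.induction_on with
      | H x => induction y using QuotientGroup.induction_on with
        | H y => induction z using QuotientGroup.induction_on with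
          | H z =>
            simp only [pol, ← QuotientGroup.mk_mul, hf]
            refine congrArg QuotientGroup.mk (Subtype.ext ?_)
            have h := congrArg π (hbi x y z)
            simpa [pol] using h) (by
      show f (QuotientGroup.mk (1 : S)) = 1
      rw [hf, QuotientGroup.eq_one_iff, Subgroup.mem_subgroupOf]
      simp [hg1]) (by
      intro x hx
      induction x using QuotientGroup.induction_on with
      | H x =>
        rw [hf, QuotientGroup.eq_one_iff, Subgroup.mem_subgroupOf] at hx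
        obtain ⟨k, hk⟩ := hx
        refine (QuotientGroup.eq_one_iff _).mpr (Subgroup.mem_subgroupOf.mpr ?_)
        have h0 : (k : G) * x = 1 := hani _ (by
          rw [hadd k k.2, map_mul]
          change π (g k) = π (g x) at hk
          rw [hk]
          exact hQ _)
        rw [eq_inv_of_mul_eq_one_right h0]
        exact K2.inv_mem k.2)
  have h1 := dl_map_add hG (hP.quotient M2) g1 ⊤
  have h2 := dl_map_add hG (hQ.quotient N2) g2 ⊤
  rw [top_inf_eq] at h1 h2
  have h1' := dl_mono (le_top : (⊤ : Subgroup G).map g1 ≤ ⊤)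
  have h2' := dl_mono (le_top : (⊤ : Subgroup G).map g2 ≤ ⊤)
  have h3 := dl_quotient hP M2
  have h4 := dl_quotient hQ N2
  have h5 := dl_map_add hP hQ π M2
  have h6 := dl_quotient (hG.subgroup S) (K2.subgroupOf S)
  rw [dl_top_subgroup, ← dl_map_subtype S (K2.subgroupOf S), Subgroup.map_subgroupOf_eq_of_le hKS] at h6
  have h7 := dl_quotient (hQ.subgroup N2) (E.subgroupOf N2)
  rw [dl_top_subgroup, ← dl_map_subtype N2 (E.subgroupOf N2), Subgroup.map_subgroupOf_eq_of_le hEN, hE] at h7
  simp only [K2, S, N2] at *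
  omega

end CfsgLib.SFreeW
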