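import Cfsg.Agent.Lib.SFreeW.MainTI.Points
import Cfsg.Agent.Lib.SFreeW.MainTI.Poly

/-!
An element of primitive prime order inverted by a swapper forces quadratic action.
-/

set_option autoImplicit false
set_option linter.unusedSectionVars false
set_option linter.style.haveILetI false

namespace CfsgLib.SFreeW

open CfsgLib.Fusion.SFreeFF CfsgLib.Fusion.CentralOffender

universe u

/-- The orbits of an element of prime order on an invariant subgroup. -/
theorem dvd_dl {X V : Type u} [Group X] [CommGroup V] [Finite V] (φ : X →* MulAut V) (h2 : Exp2 V) {ρ : X} {r a : ℕ}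
    (hr : r.Prime) (hr2 : r ≠ 2) (ho : ρ ^ r = 1) (hprim : ∀ k, r ∣ 2 ^ k - 1 → a ∣ k) {U : Subgroup V}
    (hU : ∀ v ∈ U, φ ρ v ∈ U) : ∃ j, dl U = dl (U ⊓ fix φ (Subgroup.zpowers ρ)) + a * j := by
  haveI : Fact r.Prime := ⟨hr⟩
  have hpow : ∀ i : ℕ, ∀ v ∈ U, φ (ρ ^ i) v ∈ U := fun i => by
    induction i with
    | zero => intro v hv; rwa [pow_zero, apply_one]
    | succ i ih => intro v hv; rw [pow_succ, apply_mul]; exact ih _ (hU v hv)
  set G := Subgroup.zpowers ρ
  have hG : IsPGroup r G := fun g => by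
    refine ⟨1, Subtype.ext ?_⟩
    obtain ⟨i, hi⟩ := g.2
    rw [SubmonoidClass.coe_pow, pow_one, ← hi, Subgroup.coe_one]
    show (ρ ^ i) ^ r = 1
    rw [← zpow_natCast, ← zpow_mul, mul_comm, zpow_mul, zpow_natCast, ho, one_zpow]
  have hmem : ∀ (g : G) (v : U), φ (g : X) v ∈ U := by
    intro g v
    obtain ⟨i, hi⟩ := g.2
    obtain ⟨n, hn⟩ : ∃ n : ℕ, ρ ^ i = ρ ^ n := ⟨(i % r).toNat, by
      have hr0 : (r : ℤ) ≠ 0 := by exact_mod_cast hr.ne_zero
      conv_lhs => rw [← Int.emod_add_mul_ediv i r, zpow_add, zpow_mul, zpow_natCast, ho, one_zpow, mul_one]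
      rw [← zpow_natCast, Int.toNat_of_nonneg (Int.emod_nonneg _ hr0)]⟩
    simp only at hi
    rw [← hi, hn]
    exact hpow n v v.2
  letI : MulAction G U :=
    { smul := fun g v => ⟨φ (g : X) v, hmem g v⟩
      one_smul := fun v => Subtype.ext (apply_one φ _)
      mul_smul := fun g g' v => Subtype.ext (apply_mul φ _ _ _) }
  have h1 := hG.card_modEq_card_fixedPoints U
  have e : Nat.card (MulAction.fixedPoints G U) = Nat.card ↥(U ⊓ fix φ G) := Nat.card_congr
    { toFun := fun v => ⟨v.1.1, v.1.2, fun e he => congrArg Subtype.val (v.2 ⟨e, he⟩)⟩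
      invFun := fun v => ⟨⟨v.1, v.2.1⟩, fun g => Subtype.ext (v.2.2 g g.2)⟩
      left_inv := fun _ => rfl
      right_inv := fun _ => rfl }
  rw [e, card_eq_pow h2, card_eq_pow h2] at h1
  set d0 := dl (U ⊓ fix φ G)
  have hle : d0 ≤ dl U := dl_mono inf_le_left
  obtain ⟨d, hd⟩ : ∃ d, dl U = d0 + d := Nat.exists_eq_add_of_le hle
  rw [hd, pow_add] at h1
  have h2' : r ∣ 2 ^ d0 * 2 ^ d - 2 ^ d0 :=
    (Nat.modEq_iff_dvd' (Nat.le_mul_of_pos_right _ (by positivity))).mp h1.symm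
  rw [show 2 ^ d0 * 2 ^ d - 2 ^ d0 = 2 ^ d0 * (2 ^ d - 1) by rw [Nat.mul_sub, mul_one]] at h2'
  have hcop : Nat.Coprime r (2 ^ d0) :=
    Nat.Coprime.pow_right _ ((Nat.coprime_primes hr Nat.prime_two).mpr hr2)
  obtain ⟨j, hj⟩ := hprim _ (hcop.dvd_of_dvd_mul_left h2')
  exact ⟨j, by rw [hd, hj]⟩

/-- An element of order `r`, inverted by an involution outside `M`. -/
structure RhoData {X V : Type u} [Group X] [CommGroup V] (φ : X →* MulAut V) (A M : Subgroup X) (u ρ : X) (r : ℕ) :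
    Prop where
  op : OP φ A M
  two_le : 2 ≤ dl A
  odd : Odd (dl A)
  small : dl (⊤ : Subgroup V) < 2 * dl A + dl (fix φ A)
  invol : u * u = 1
  outer : u ∉ M
  mem : ρ ∈ M
  prime : r.Prime
  order : orderOf ρ = r
  inverted : u * ρ * u = ρ⁻¹
  prim : ∀ k, r ∣ 2 ^ k - 1 → dl A ∣ k

namespace RhoData

variable {X V : Type u} [Group X] [Finite X] [CommGroup V] [Finite V] {φ : X →* MulAut V} {A M : Subgroup X}
  {u ρ : X} {r : ℕ}

theorem r_ne_two (h : RhoData φ A M u ρ r) : r ≠ 2 := by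
  rintro rfl
  have h1 := h.op.inv_mem (by rw [← pow_two, ← h.order, pow_orderOf_eq_one]) h.mem
  have h2 : u * ρ * u⁻¹ ∈ A := by
    rw [inv_eq_of_mul_eq_one_right h.invol, h.inverted]
    exact A.inv_mem h1
  refine h.outer (h.op.rep.ti.mem_M h1 (fun e => ?_) (h.op.rep.ti.le h2))
  have := h.order
  rw [e, orderOf_one] at this
  omega

theorem conj_A (h : RhoData φ A M u ρ r) {x : X} (hx : x ∈ A) : ρ * x * ρ⁻¹ ∈ A :=
  h.op.rep.ti.conj_mem h.mem hx

theorem uinv (h : RhoData φ A M u ρ r) : u⁻¹ = u := inv_eq_of_mul_eq_one_right h.invol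

theorem rho_u (h : RhoData φ A M u ρ r) : ρ * u = u * ρ⁻¹ := by
  rw [← h.inverted, ← mul_assoc, ← mul_assoc, h.invol, one_mul]

/-- An element of `M` centralised by `ρ` and its conjugate by `u`. -/
theorem gen_top (h : RhoData φ A M u ρ r) {L : Subgroup X} (h1 : A ≤ L) (h2 : ∀ x ∈ A, u * x * u ∈ L) : L = ⊤ := by
  obtain ⟨a, ha, ha1⟩ := h.op.rep.ti.exists_ne
  refine h.op.max L h1 fun hle => h.op.rep.ti.inf_M_eq_of_conj ha ha1 h.outer ?_
  rw [h.uinv]
  exact hle (h2 a ha)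

theorem no_fix (h : RhoData φ A M u ρ r) {x : X} (hx : x ∈ A) (hρ : ρ * x * ρ⁻¹ = x) : x = 1 := by
  classical
  haveI : Fact (Nat.Prime r) := ⟨h.prime⟩
  by_contra hx1
  -- the centraliser of `ρ` in `A` is all of `A`
  let C : Subgroup X := A ⊓ Subgroup.centralizer {ρ}
  letI : CommGroup A :=
    { (inferInstance : Group A) with mul_comm := fun a b => Subtype.ext (h.op.rep.ti.comm a a.2 b b.2) }
  have hA2 : Exp2 A := fun a => Subtype.ext (h.op.rep.ti.sq a a.2)
  let cM : Subgroup.zpowers ρ →* MulAut A :=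
    { toFun := fun g =>
        { toFun := fun y => ⟨(g : X) * y * (g : X)⁻¹, h.op.rep.ti.conj_mem (Subgroup.zpowers_le.mpr h.mem g.2) y.2⟩
          invFun := fun y => ⟨(g : X)⁻¹ * y * (g : X), by
            have := h.op.rep.ti.conj_mem (Subgroup.zpowers_le.mpr h.mem (inv_mem g.2)) y.2
            rwa [inv_inv] at this⟩
          left_inv := fun y => Subtype.ext (show (g : X)⁻¹ * ((g : X) * y * (g : X)⁻¹) * g = y by group)
          right_inv := fun y => Subtype.ext (show (g : X) * ((g : X)⁻¹ * y * g) * (g : X)⁻¹ = y by group)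
          map_mul' := fun y z => Subtype.ext (show (g : X) * (y * z) * (g : X)⁻¹ =
            (g : X) * y * (g : X)⁻¹ * (g * z * (g : X)⁻¹) by group) }
      map_one' := MulEquiv.ext fun y => Subtype.ext (show (1 : X) * y * 1⁻¹ = y by group)
      map_mul' := fun g g' => MulEquiv.ext fun y => Subtype.ext
        (show ((g : X) * g') * y * ((g : X) * g')⁻¹ = g * (g' * y * (g' : X)⁻¹) * (g : X)⁻¹ by group) }
  obtain ⟨j, hj⟩ := dvd_dl cM hA2 (ρ := ⟨ρ, Subgroup.mem_zpowers ρ⟩) h.prime h.r_ne_two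
    (Subtype.ext (by rw [SubmonoidClass.coe_pow, ← h.order, pow_orderOf_eq_one]; rfl)) h.prim (U := ⊤)
    (fun _ _ => trivial)
  set K := (⊤ : Subgroup A) ⊓ fix cM (Subgroup.zpowers ⟨ρ, Subgroup.mem_zpowers ρ⟩)
  have hK : (⟨x, hx⟩ : A) ∈ K := ⟨trivial, mem_fix_zpowers.mpr (Subtype.ext hρ)⟩
  have hpos : 0 < dl K := dl_pos hA2 fun e => hx1 (by
    have h1 : (⟨x, hx⟩ : A) = 1 := Subgroup.mem_bot.mp (e ▸ hK : (⟨x, hx⟩ : A) ∈ (⊥ : Subgroup A))
    exact congrArg Subtype.val h1)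
  have hA : dl (⊤ : Subgroup A) = dl A := by rw [dl, dl, Subgroup.card_top]
  have hj0 : j = 0 := by
    by_contra hj0
    have : dl A ≤ dl A * j := Nat.le_mul_of_pos_right _ (Nat.pos_of_ne_zero hj0)
    omega
  have htop : K = ⊤ := eq_of_dl_le hA2 le_top (by rw [hj, hj0]; simp)
  have hcen : ∀ y ∈ A, ρ * y = y * ρ := by
    intro y hy
    have h1 := mem_fix_zpowers.mp (htop.symm ▸ Subgroup.mem_top (⟨y, hy⟩ : A) : (⟨y, hy⟩ : A) ∈ K).2
    have h2 : ρ * y * ρ⁻¹ = y := congrArg Subtype.val h1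
    calc ρ * y = ρ * y * ρ⁻¹ * ρ := by group
      _ = y * ρ := by rw [h2]
  have htop' : Subgroup.centralizer ({ρ} : Set X) = ⊤ := h.gen_top
    (fun y hy => Subgroup.mem_centralizer_singleton_iff.mpr (hcen y hy).symm) fun y hy => by
      refine Subgroup.mem_centralizer_singleton_iff.mpr ?_
      have h1 : ρ⁻¹ * y = y * ρ⁻¹ := by
        calc ρ⁻¹ * y = ρ⁻¹ * (y * ρ) * ρ⁻¹ := by group
          _ = y * ρ⁻¹ := by rw [← hcen y hy]; group
      calc u * y * u * ρ = u * (y * (u * ρ * u)) * u := by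
            rw [show u * (y * (u * ρ * u)) * u = u * y * u * ρ * (u * u) by group, h.invol, mul_one]
        _ = u * (ρ⁻¹ * y) * u := by rw [h.inverted, h1]
        _ = u * ((u * ρ * u) * y) * u := by rw [h.inverted]
        _ = (u * u) * ρ * (u * y * u) := by group
        _ = ρ * (u * y * u) := by rw [h.invol, one_mul]
  have hcomm : u * ρ = ρ * u :=
    Subgroup.mem_centralizer_singleton_iff.mp (htop'.symm ▸ Subgroup.mem_top u : u ∈ Subgroup.centralizer {ρ})
  have hinv := h.inverted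
  rw [hcomm, mul_assoc, h.invol, mul_one] at hinv
  have hsq : ρ ^ 2 = 1 := by rw [pow_two]; nth_rewrite 2 [hinv]; exact mul_inv_cancel ρ
  have hd := orderOf_dvd_of_pow_eq_one hsq
  rw [h.order] at hd
  exact h.r_ne_two ((Nat.prime_dvd_prime_iff_eq h.prime Nat.prime_two).mp hd)

theorem exists_conj_mul (h : RhoData φ A M u ρ r) {y : X} (hy : y ∈ A) :
    ∃ x ∈ A, y = ρ * x * ρ⁻¹ * x := by
  haveI := Fintype.ofFinite A
  let f : A → A := fun x => ⟨ρ * x * ρ⁻¹ * x, A.mul_mem (h.conj_A x.2) x.2⟩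
  have hinj : Function.Injective f := by
    intro a b e
    have e' : ρ * (a : X) * ρ⁻¹ * a = ρ * b * ρ⁻¹ * b := congrArg Subtype.val e
    have h1 : (a : X) * b = 1 := by
      refine h.no_fix (A.mul_mem a.2 b.2) ?_
      have hc := h.op.rep.ti.comm
      set p := ρ * (a : X) * ρ⁻¹
      set q := ρ * (b : X) * ρ⁻¹
      have hp : p ∈ A := h.conj_A a.2
      have hq : q ∈ A := h.conj_A b.2
      rw [show ρ * ((a : X) * b) * ρ⁻¹ = p * q by simp only [p, q]; group]
      calc p * q = p * (a : X) * (a * q) := by rw [mul_assoc p, ← mul_assoc (a : X) a, h.op.rep.ti.sq _ a.2, one_mul]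
        _ = q * b * (a * q) := by rw [e']
        _ = q * (b * a) * q := by group
        _ = (b * a) * q * q := by rw [hc q hq _ (A.mul_mem b.2 a.2)]
        _ = a * b := by rw [mul_assoc, h.op.rep.ti.sq _ hq, mul_one, hc b b.2 a a.2]
    exact Subtype.ext ((eq_inv_of_mul_eq_one_left h1).trans (h.op.rep.ti.inv_eq b.2))
  obtain ⟨x, hx⟩ := (Finite.injective_iff_surjective.mp hinj) ⟨y, hy⟩
  exact ⟨x, x.2, (congrArg Subtype.val hx).symm⟩

theorem killed (h : RhoData φ A M u ρ r) {W : Type*} [CommGroup W] (f : X → W)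
    (hmul : ∀ x ∈ A, ∀ y ∈ A, f (x * y) = f x * f y) (hinv : ∀ x ∈ A, f (ρ * x * ρ⁻¹) = f x) {y : X} (hy : y ∈ A) :
    f y = 1 := by
  obtain ⟨x, hx, rfl⟩ := h.exists_conj_mul hy
  rw [hmul _ (h.conj_A hx) x hx, hinv x hx, ← hmul x hx x hx, h.op.rep.ti.sq x hx]
  have := hmul 1 A.one_mem 1 A.one_mem
  rw [one_mul] at this
  exact mul_eq_left.mp this.symm

theorem irred_A (h : RhoData φ A M u ρ r) {B : Subgroup X} (hB : B ≤ A) (hne : B ≠ ⊥)
    (hinv : ∀ x ∈ B, ρ * x * ρ⁻¹ ∈ B) : A ≤ B := by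
  classical
  letI : CommGroup A :=
    { (inferInstance : Group A) with mul_comm := fun a b => Subtype.ext (h.op.rep.ti.comm a a.2 b b.2) }
  have hA2 : Exp2 A := fun a => Subtype.ext (h.op.rep.ti.sq a a.2)
  let cM : Subgroup.zpowers ρ →* MulAut A :=
    { toFun := fun g =>
        { toFun := fun y => ⟨(g : X) * y * (g : X)⁻¹, h.op.rep.ti.conj_mem (Subgroup.zpowers_le.mpr h.mem g.2) y.2⟩
          invFun := fun y => ⟨(g : X)⁻¹ * y * (g : X), by
            have := h.op.rep.ti.conj_mem (Subgroup.zpowers_le.mpr h.mem (inv_mem g.2)) y.2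
            rwa [inv_inv] at this⟩
          left_inv := fun y => Subtype.ext (show (g : X)⁻¹ * ((g : X) * y * (g : X)⁻¹) * g = y by group)
          right_inv := fun y => Subtype.ext (show (g : X) * ((g : X)⁻¹ * y * g) * (g : X)⁻¹ = y by group)
          map_mul' := fun y z => Subtype.ext (show (g : X) * (y * z) * (g : X)⁻¹ =
            (g : X) * y * (g : X)⁻¹ * (g * z * (g : X)⁻¹) by group) }
      map_one' := MulEquiv.ext fun y => Subtype.ext (show (1 : X) * y * 1⁻¹ = y by group)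
      map_mul' := fun g g' => MulEquiv.ext fun y => Subtype.ext
        (show ((g : X) * g') * y * ((g : X) * g')⁻¹ = g * (g' * y * (g' : X)⁻¹) * (g : X)⁻¹ by group) }
  obtain ⟨j, hj⟩ := dvd_dl cM hA2 (ρ := ⟨ρ, Subgroup.mem_zpowers ρ⟩) h.prime h.r_ne_two
    (Subtype.ext (by rw [SubmonoidClass.coe_pow, ← h.order, pow_orderOf_eq_one]; rfl)) h.prim
    (U := B.subgroupOf A) (fun v hv => hinv _ hv)
  have h0 : B.subgroupOf A ⊓ fix cM (Subgroup.zpowers ⟨ρ, Subgroup.mem_zpowers ρ⟩) = ⊥ := by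
    refine (Subgroup.eq_bot_iff_forall _).mpr fun v hv => Subtype.ext (h.no_fix v.2 ?_)
    exact congrArg Subtype.val (mem_fix_zpowers.mp hv.2)
  rw [h0, dl_bot, zero_add] at hj
  have hpos : 0 < dl (B.subgroupOf A) := dl_pos hA2 fun e => hne
    (by rw [Subgroup.subgroupOf_eq_bot, disjoint_iff, inf_eq_left.mpr hB] at e; exact e)
  have hj0 : 1 ≤ j := by
    rcases Nat.eq_zero_or_pos j with rfl | hj0
    · simp at hj; omega
    · exact hj0
  have hA : dl (⊤ : Subgroup A) = dl A := by rw [dl, dl, Subgroup.card_top]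
  have hge : dl A ≤ dl (B.subgroupOf A) := hj ▸ Nat.le_mul_of_pos_right _ (by omega)
  exact Subgroup.subgroupOf_eq_top.mp (eq_of_dl_le hA2 le_top (by rw [hA]; exact hge))

theorem apply_rho_del (h : RhoData φ A M u ρ r) (x : X) (v : V) :
    φ ρ (del φ x v) = del φ (ρ * x * ρ⁻¹) (φ ρ v) := by
  rw [del_apply, del_apply, map_mul, map_inv, ← apply_mul, ← apply_mul, show ρ * x * ρ⁻¹ * ρ = ρ * x by group]

theorem apply_u_del (h : RhoData φ A M u ρ r) (x : X) (v : V) :
    φ u (del φ x v) = del φ (u * x * u) (φ u v) := by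
  rw [del_apply, del_apply, map_mul, map_inv, ← apply_mul, ← apply_mul, mul_assoc (u * x), h.invol, mul_one]

/-- The sum over the orbit, the projection to the fixed points. -/
noncomputable def proj [Fintype (Subgroup.zpowers ρ)] (φ : X →* MulAut V) : V →* V :=
  { toFun := fun v => ∏ g : Subgroup.zpowers ρ, φ (g : X) v
    map_one' := by simp
    map_mul' := fun a b => by simp [Finset.prod_mul_distrib] }

/-- Quadratic action. -/
theorem quadratic (h : RhoData φ A M u ρ r) : ∀ x ∈ A, ∀ y ∈ A, ∀ v, del φ x (del φ y v) = 1 := by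
  classical
  haveI : Fintype (Subgroup.zpowers ρ) := Fintype.ofFinite _
  have hr2 := h.r_ne_two
  have hV2 := h.op.rep.exp
  have hti := h.op.rep.ti
  set a := dl A
  set C := fix φ (Subgroup.zpowers ρ)
  set N : V →* V := proj (ρ := ρ) φ
  have hNρ : ∀ v, N (φ ρ v) = N v := fun v => by
    show ∏ g : Subgroup.zpowers ρ, φ (g : X) (φ ρ v) = ∏ g : Subgroup.zpowers ρ, φ (g : X) v
    refine Fintype.prod_equiv (Equiv.mulRight ⟨ρ, Subgroup.mem_zpowers ρ⟩) _ _ fun g => ?_
    rw [← apply_mul]; rfl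
  have hρN : ∀ v, φ ρ (N v) = N v := fun v => by
    show φ ρ (∏ g : Subgroup.zpowers ρ, φ (g : X) v) = ∏ g : Subgroup.zpowers ρ, φ (g : X) v
    rw [map_prod]
    refine Fintype.prod_equiv (Equiv.mulLeft ⟨ρ, Subgroup.mem_zpowers ρ⟩) _ _ fun g => ?_
    rw [← apply_mul]; rfl
  have hNC : ∀ v, N v ∈ C := fun v => mem_fix_zpowers.mpr (hρN v)
  have hrodd : Odd r := h.prime.odd_of_ne_two hr2
  have hN1 : ∀ v ∈ C, N v = v := fun v hv => by
    show ∏ g : Subgroup.zpowers ρ, φ (g : X) v = v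
    rw [Finset.prod_congr rfl (fun g _ => hv _ g.2), Finset.prod_const, Finset.card_univ,
      ← Nat.card_eq_fintype_card, Nat.card_zpowers, h.order]
    obtain ⟨k, hk⟩ := hrodd
    rw [hk, pow_succ, pow_mul, pow_two, hV2, one_pow, one_mul]
  have huz : ∀ g : Subgroup.zpowers ρ, u * (g : X) * u = (g : X)⁻¹ := fun g => by
    obtain ⟨i, hi⟩ := g.2
    simp only at hi
    rw [← hi]
    have h1 := CfsgLib.Involution.Dihedral.conj_zpow (x := u) (a := ρ) (by rw [h.uinv]; exact h.inverted) i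
    rw [h.uinv, zpow_neg] at h1
    exact h1
  have hNu : ∀ v, N (φ u v) = φ u (N v) := fun v => by
    show ∏ g : Subgroup.zpowers ρ, φ (g : X) (φ u v) = φ u (∏ g : Subgroup.zpowers ρ, φ (g : X) v)
    rw [map_prod]
    refine Fintype.prod_equiv (Equiv.inv _) _ _ fun g => ?_
    rw [← apply_mul, ← apply_mul]
    congr 2
    show (g : X) * u = u * (g : X)⁻¹
    rw [← huz g, ← mul_assoc, ← mul_assoc, h.invol, one_mul]
  set E := N.ker
  set F := fix φ A
  have hFρ : ∀ f ∈ F, φ ρ f ∈ F := fun f hf x hx => by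
    have h1 : ρ⁻¹ * x * ρ ∈ A := by have := hti.conj_mem (M.inv_mem h.mem) hx; rwa [inv_inv] at this
    rw [← apply_mul, show x * ρ = ρ * (ρ⁻¹ * x * ρ) by group, apply_mul, hf _ h1]
  have hρpow : ∀ g : Subgroup.zpowers ρ, ∀ f ∈ F, φ (g : X) f ∈ F := fun g f hf x hx => by
    have hg : (g : X) ∈ M := Subgroup.zpowers_le.mpr h.mem g.2
    have h1 : (g : X)⁻¹ * x * g ∈ A := by have := hti.conj_mem (M.inv_mem hg) hx; rwa [inv_inv] at this
    rw [← apply_mul, show x * (g : X) = g * ((g : X)⁻¹ * x * g) by group, apply_mul, hf _ h1]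
  have hNF : ∀ f ∈ F, N f ∈ F := fun f hf => F.prod_mem fun g _ => hρpow g f hf
  have hsplit : ∀ v, v * (N v)⁻¹ ∈ E := fun v => MonoidHom.mem_ker.mpr (by
    rw [map_mul, map_inv, hN1 _ (hNC v), mul_inv_cancel])
  have hEC : ∀ v, v ∈ E → v ∈ C → v = 1 := fun v he hc => (hN1 v hc).symm.trans (MonoidHom.mem_ker.mp he)
  have hEρ : ∀ v ∈ E, φ ρ v ∈ E := fun v hv => MonoidHom.mem_ker.mpr ((hNρ v).trans (MonoidHom.mem_ker.mp hv))
  have hEu : ∀ v ∈ E, φ u v ∈ E := fun v hv => MonoidHom.mem_ker.mpr (by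
    rw [hNu, MonoidHom.mem_ker.mp hv, map_one])
  have hρr : ρ ^ r = 1 := by rw [← h.order, pow_orderOf_eq_one]
  have hmult : ∀ U : Subgroup V, U ≤ E → (∀ v ∈ U, φ ρ v ∈ U) → ∃ j, dl U = a * j := fun U hU hUρ => by
    obtain ⟨j, hj⟩ := dvd_dl φ hV2 h.prime hr2 hρr h.prim hUρ
    refine ⟨j, hj.trans ?_⟩
    rw [show U ⊓ fix φ (Subgroup.zpowers ρ) = ⊥ from (Subgroup.eq_bot_iff_forall _).mpr
      fun v hv => hEC v (hU hv.1) hv.2, dl_bot, zero_add]
  set Λ := F ⊓ E
  set Λ' := Λ.map (φ u).toMonoidHom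
  have hΛinter : Λ ⊓ Λ' = ⊥ := by
    refine le_bot_iff.mp ?_
    rw [← h.op.fix_inter h.outer]
    refine fun v hv => ⟨hv.1.1, ?_⟩
    obtain ⟨w, hw, rfl⟩ := hv.2
    rw [cj, fix_map]
    exact ⟨w, hw.1, rfl⟩
  have hΛ'E : Λ' ≤ E := by rintro _ ⟨w, hw, rfl⟩; exact hEu w hw.2
  have hdlΛ' : dl Λ' = dl Λ := by rw [dl, dl, Subgroup.card_map_of_injective (φ u).injective]
  obtain ⟨je, hje⟩ := hmult E le_rfl hEρ
  obtain ⟨jf, hjf⟩ := hmult Λ inf_le_right fun v hv => ⟨hFρ v hv.1, hEρ v hv.2⟩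
  have hdlV : dl (⊤ : Subgroup V) = dl E + dl N.range := by
    have := dl_map_add hV2 hV2 N ⊤
    rw [top_inf_eq, ← MonoidHom.range_eq_map] at this
    simp only [E]
    omega
  have hdlF : dl F ≤ dl Λ + dl N.range := by
    have h1 := dl_map_add hV2 hV2 N F
    have h2 : F.map N ≤ N.range := by rintro _ ⟨f, -, rfl⟩; exact ⟨f, rfl⟩
    have := dl_mono h2
    simp only [Λ, E]
    omega
  have hsmall : dl (⊤ : Subgroup V) < 2 * a + dl F := h.small
  have h2f : 2 * dl Λ ≤ dl E := by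
    have h1 := dl_sup_add_inf hV2 Λ Λ'
    rw [hΛinter, dl_bot] at h1
    have h3 := dl_mono (sup_le inf_le_right hΛ'E : Λ ⊔ Λ' ≤ E)
    omega
  have hEne : E ≠ ⊥ := by
    intro he
    have hρ1 : φ ρ = 1 := MulEquiv.ext fun v => by
      have h1 : v * (N v)⁻¹ = 1 := Subgroup.mem_bot.mp (he ▸ hsplit v)
      rw [mul_inv_eq_one.mp h1, hρN]
      rfl
    have h1 := h.order
    rw [h.op.rep.inj (hρ1.trans (map_one φ).symm), orderOf_one] at h1
    exact h.prime.one_lt.ne h1
  have hEpos : 0 < dl E := dl_pos hV2 hEne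
  have ha := h.two_le
  have hne1 : dl E ≠ a := by
    intro he
    -- an involution inverting a fixed-point-free element on a space of odd dimension
    set P := E ⊓ fix φ (Subgroup.zpowers u)
    obtain ⟨i, hi⟩ : ∃ i, r + 1 = 2 * i := by obtain ⟨k, hk⟩ := hrodd; exact ⟨k + 1, by omega⟩
    set c := ρ ^ i with hc
    have hcc : c * c = ρ := by rw [hc, ← pow_add, ← two_mul, ← hi, pow_succ, hρr, one_mul]
    have huc : u * c * u = c⁻¹ := huz ⟨c, Subgroup.npow_mem_zpowers ρ i⟩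
    set P' := P.map (φ c⁻¹).toMonoidHom
    have hP : P ⊓ P' = ⊥ := by
      refine (Subgroup.eq_bot_iff_forall _).mpr fun v hv => ?_
      obtain ⟨w, hw, hwv⟩ := hv.2
      have h1 : φ u v = v := mem_fix_zpowers.mp hv.1.2
      have hwu : φ u w = w := mem_fix_zpowers.mp hw.2
      refine hEC v hv.1.1 (mem_fix_zpowers.mpr ?_)
      have hwv' : φ c⁻¹ w = v := hwv
      have h2 : φ (c⁻¹ * u * c) v = v := by
        rw [apply_mul, apply_mul, ← hwv', apply_inv', hwu]
      rw [show c⁻¹ * u * c = u * ρ by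
        rw [← huc, show u * c * u * u * c = u * c * (u * u) * c by group, h.invol, mul_one, mul_assoc, hcc]] at h2
      calc φ ρ v = φ u (φ (u * ρ) v) := by rw [← apply_mul, ← mul_assoc, h.invol, one_mul]
        _ = v := by rw [h2, h1]
    have h3 := dl_sup_add_inf hV2 P P'
    rw [hP, dl_bot] at h3
    have hP' : dl P' = dl P := by rw [dl, dl, Subgroup.card_map_of_injective (φ c⁻¹).injective]
    have hEc : ∀ n : ℕ, ∀ v ∈ E, φ (ρ ^ n) v ∈ E := fun n => by
      induction n with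
      | zero => intro v hv; rwa [pow_zero, apply_one]
      | succ n ih => intro v hv; rw [pow_succ, apply_mul]; exact ih _ (hEρ v hv)
    have hsup : P ⊔ P' ≤ E := sup_le inf_le_left (by
      rintro _ ⟨w, hw, rfl⟩
      have hcr : c ^ r = 1 := by rw [hc, ← pow_mul, mul_comm, pow_mul, hρr, one_pow]
      have hci : c⁻¹ = c ^ (r - 1) :=
        inv_eq_of_mul_eq_one_right (by rw [← pow_succ', Nat.sub_add_cancel h.prime.one_le, hcr])
      show φ c⁻¹ w ∈ E
      rw [hci, hc, ← pow_mul]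
      exact hEc _ w hw.1)
    have h4 := dl_mono hsup
    -- half of the space is fixed by an involution
    have h5 : dl E ≤ 2 * dl P := by
      have h6 := dl_map_add hV2 hV2 (del φ u) E
      have h7 : E.map (del φ u) ≤ P := by
        rintro _ ⟨v, hv, rfl⟩
        refine ⟨E.mul_mem (hEu v hv) (E.inv_mem hv), mem_fix_zpowers.mpr ?_⟩
        rw [del_apply, map_mul, map_inv, ← apply_mul, h.invol, apply_one, exp2_inv hV2, exp2_inv hV2, mul_comm]
      have h8 : E ⊓ (del φ u).ker ≤ P := fun v hv => ⟨hv.1, mem_fix_zpowers.mpr ((del_eq_one φ).mp hv.2)⟩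
      have := dl_mono h7
      have := dl_mono h8
      omega
    have : Even a := ⟨dl P, by omega⟩
    exact Nat.not_even_iff_odd.mpr h.odd this
  have hje1 : 1 ≤ je := by
    rcases Nat.eq_zero_or_pos je with rfl | h0
    · simp at hje; omega
    · exact h0
  have hjej : je ≠ 1 := fun e => hne1 (by rw [hje, e, mul_one])
  have hlt : je < jf + 2 := by
    have h1 : a * je < a * (jf + 2) := by
      rw [Nat.mul_add, mul_comm a 2, ← hje, ← hjf]
      show dl E < dl Λ + 2 * a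
      omega
    exact Nat.lt_of_mul_lt_mul_left h1
  have h2j : 2 * jf ≤ je := by
    have h1 : a * (2 * jf) ≤ a * je := by
      rw [← hje, show a * (2 * jf) = 2 * (a * jf) by ring, ← hjf]; exact h2f
    exact Nat.le_of_mul_le_mul_left h1 (by omega)
  obtain ⟨rfl, rfl⟩ : je = 2 ∧ jf = 1 := by omega
  have hEdl : dl E = 2 * a := by rw [hje, mul_comm]
  have hΛdl : dl Λ = a := by rw [hjf, mul_one]
  -- the subgroup moved into the fixed points
  let C2 : Subgroup V :=
    { carrier := {v | ∀ x ∈ A, del φ x v ∈ F}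
      one_mem' := fun x _ => by rw [map_one]; exact one_mem _
      mul_mem' := fun {v w} hv hw x hx => by rw [map_mul]; exact F.mul_mem (hv x hx) (hw x hx)
      inv_mem' := fun {v} hv x hx => by rw [map_inv]; exact F.inv_mem (hv x hx) }
  have hVC2 : ∀ x ∈ A, ∀ v, del φ x v ∈ C2 := fun x hx v y hy z hz =>
    (del_eq_one φ).mp (h.op.rep.cubic z hz y hy x hx v)
  have hFC2 : F ≤ C2 := fun f hf x hx => by
    rw [(del_eq_one φ).mpr (hf x hx)]; exact one_mem _
  have hdelF : ∀ x ∈ A, ∀ f ∈ F, del φ x f = 1 := fun x hx f hf => (del_eq_one φ).mpr (hf x hx)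
  have hC2ρ : ∀ v ∈ C2, φ ρ v ∈ C2 := fun v hv x hx => by
    have h1 : ρ⁻¹ * x * ρ ∈ A := by have := hti.conj_mem (M.inv_mem h.mem) hx; rwa [inv_inv] at this
    have h2 := h.apply_rho_del (ρ⁻¹ * x * ρ) v
    rw [show ρ * (ρ⁻¹ * x * ρ) * ρ⁻¹ = x by group] at h2
    rw [← h2]
    exact hFρ _ (hv _ h1)
  have hCρ : ∀ w ∈ C, φ ρ w = w := fun w hw => mem_fix_zpowers.mp hw
  have hCE : C2 ⊓ E = Λ ∨ E ≤ C2 := by
    obtain ⟨j, hj⟩ := hmult (C2 ⊓ E) inf_le_right fun v hv => ⟨hC2ρ v hv.1, hEρ v hv.2⟩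
    have h1 : Λ ≤ C2 ⊓ E := inf_le_inf_right E hFC2
    rcases Nat.lt_or_ge j 2 with hj2 | hj2
    · left
      refine (eq_of_dl_le hV2 h1 ?_).symm
      rw [hj, hΛdl]
      calc a * j ≤ a * 1 := Nat.mul_le_mul_left a (by omega)
        _ = a := mul_one a
    · right
      have h2 : C2 ⊓ E = E := eq_of_dl_le hV2 inf_le_right (by
        rw [hj, hEdl]
        calc 2 * a = a * 2 := mul_comm 2 a
          _ ≤ a * j := Nat.mul_le_mul_left a hj2)
      exact h2 ▸ inf_le_left
  by_cases hI : ∀ w ∈ C, w ∈ C2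
  · by_cases hEC2 : E ≤ C2
    · intro x hx y hy v
      refine hdelF x hx _ ?_
      have hv : v ∈ C2 := by
        rw [← inv_mul_cancel_right v (N v)]
        exact C2.mul_mem (hEC2 (hsplit v)) (hI _ (hNC v))
      exact hv y hy
    have hΛ2 : C2 ⊓ E = Λ := hCE.resolve_right hEC2
    intro x hx y hy v
    set z := del φ y v
    have hz : z ∈ C2 := hVC2 y hy v
    set w := N z
    set f0 := z * w⁻¹
    have hf0 : f0 ∈ F := by
      have hm : f0 ∈ C2 ⊓ E := ⟨C2.mul_mem hz (C2.inv_mem (hI _ (hNC z))), hsplit z⟩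
      rw [hΛ2] at hm
      exact hm.1
    have hzw : ∀ x' ∈ A, del φ x' z = del φ x' w := fun x' hx' => by
      rw [show z = f0 * w by simp only [f0]; rw [inv_mul_cancel_right], map_mul, hdelF x' hx' f0 hf0, one_mul]
    let K : Subgroup X :=
      { carrier := {x' | x' ∈ A ∧ del φ x' w = 1}
        one_mem' := ⟨A.one_mem, (del_eq_one φ).mpr (apply_one φ w)⟩
        mul_mem' := fun {p q} hp hq => ⟨A.mul_mem hp.1 hq.1, by rw [del_mul, hp.2, hq.2, map_one, one_mul, one_mul]⟩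
        inv_mem' := fun {p} hp => ⟨A.inv_mem hp.1, by rw [hti.inv_eq hp.1]; exact hp.2⟩ }
    rw [hzw x hx]
    by_cases hy1 : y = 1
    · subst hy1
      have hz1 : z = 1 := (del_eq_one φ).mpr (apply_one φ v)
      simp only [w, hz1, map_one]
    have hle : A ≤ K := h.irred_A (B := K) (fun _ hx' => hx'.1) (fun e => hy1 (by
      have hyK : y ∈ K := ⟨hy, by
        rw [← hzw y hy]
        have h1 := del_mul φ y y v
        rw [hti.sq y hy, hV2, one_mul, (del_eq_one φ).mpr (apply_one φ v)] at h1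
        exact h1.symm⟩
      exact Subgroup.mem_bot.mp (e ▸ hyK))) fun x' hx' => ⟨h.conj_A hx'.1, by
        have h1 := h.apply_rho_del x' w
        rw [hx'.2, map_one, hCρ w (hNC z)] at h1
        exact h1.symm⟩
    exact (hle hx).2
  exfalso
  push Not at hI
  obtain ⟨w, hwC, hwC2⟩ := hI
  -- the `C`-part of `[C, A]` lies in `F`
  have hCA : ∀ w ∈ C, ∀ y ∈ A, N (del φ y w) ∈ F := by
    intro w hw y hy
    have h1 := h.killed (W := V ⧸ F) (fun x => QuotientGroup.mk (N (del φ x w))) (fun p hp q hq => by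
      rw [del_mul, map_mul, map_mul, QuotientGroup.mk_mul, QuotientGroup.mk_mul,
        (QuotientGroup.eq_one_iff (N (del φ p (del φ q w)))).mpr (hNF _ (hVC2 q hq w p hp)), mul_one])
      (fun p hp => by
        have h1 : φ ρ (del φ p w) = del φ (ρ * p * ρ⁻¹) w := by rw [h.apply_rho_del, hCρ w hw]
        show (QuotientGroup.mk (N (del φ (ρ * p * ρ⁻¹) w)) : V ⧸ F) = QuotientGroup.mk (N (del φ p w))
        rw [← h1, hNρ]) hy
    exact (QuotientGroup.eq_one_iff _).mp h1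
  obtain ⟨x0, hx0, hx0F⟩ : ∃ x0 ∈ A, del φ x0 w ∉ F := by
    by_contra hc
    push Not at hc
    exact hwC2 hc
  set ee : X → V := fun x => del φ x w * (N (del φ x w))⁻¹
  have heC2 : ∀ x ∈ A, ee x ∈ C2 := fun x hx => C2.mul_mem (hVC2 x hx w) (C2.inv_mem (hFC2 (hCA w hwC x hx)))
  have hEC2 : E ≤ C2 := by
    refine hCE.resolve_left fun he => hx0F ?_
    have hm : ee x0 ∈ C2 ⊓ E := ⟨heC2 x0 hx0, hsplit _⟩
    rw [he] at hm
    rw [← inv_mul_cancel_right (del φ x0 w) (N (del φ x0 w))]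
    exact F.mul_mem hm.1 (hCA w hwC x0 hx0)
  letI : CommGroup A := { (inferInstance : Group A) with mul_comm := fun p q => Subtype.ext (hti.comm p p.2 q q.2) }
  have hA2 : Exp2 A := fun p => Subtype.ext (hti.sq p p.2)
  -- the map onto `E` modulo `Λ`
  let μ : A →* V ⧸ F :=
    { toFun := fun x => QuotientGroup.mk (del φ (x : X) w)
      map_one' := by
        rw [Subgroup.coe_one, show del φ (1 : X) w = 1 from (del_eq_one φ).mpr (apply_one φ w)]
        rfl
      map_mul' := fun p q => by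
        rw [Subgroup.coe_mul, del_mul, QuotientGroup.mk_mul, QuotientGroup.mk_mul,
          (QuotientGroup.eq_one_iff (del φ (p : X) (del φ (q : X) w))).mpr (hVC2 q q.2 w p p.2), mul_one] }
  have hμρ : ∀ p : A, del φ (p : X) w ∈ F → del φ (ρ * (p : X) * ρ⁻¹) w ∈ F := fun p hp => by
    rw [← hCρ w hwC, ← h.apply_rho_del]
    exact hFρ _ hp
  have hμinj : ∀ x : A, μ x = 1 → x = 1 := by
    intro x hx
    by_contra hx1
    have hle := h.irred_A (B := μ.ker.map A.subtype) (Subgroup.map_subtype_le _) (fun e => hx1 (Subtype.ext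
      (Subgroup.mem_bot.mp (e ▸ ⟨x, hx, rfl⟩)))) (by
        rintro _ ⟨p, hp, rfl⟩
        exact ⟨⟨_, h.conj_A p.2⟩, (QuotientGroup.eq_one_iff _).mpr (hμρ p ((QuotientGroup.eq_one_iff _).mp hp)), rfl⟩)
    obtain ⟨p, hp, hpx⟩ := hle hx0
    refine hx0F ?_
    rw [← show (p : X) = x0 from hpx]
    exact (QuotientGroup.eq_one_iff _).mp hp
  have hrange : μ.range = E.map (QuotientGroup.mk' F) := by
    refine eq_of_dl_le (hV2.quotient F) ?_ ?_
    · rintro _ ⟨x, rfl⟩
      refine ⟨ee x, hsplit _, ?_⟩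
      show (QuotientGroup.mk (ee x) : V ⧸ F) = QuotientGroup.mk (del φ (x : X) w)
      rw [eq_mk_iff, show ee x * (del φ (x : X) w)⁻¹ = (N (del φ (x : X) w))⁻¹ by
        simp only [ee]; rw [mul_comm (del φ (x : X) w), mul_inv_cancel_right]]
      exact F.inv_mem (hCA w hwC x x.2)
    · have h1 := dl_map_add hV2 (hV2.quotient F) (QuotientGroup.mk' F) E
      rw [QuotientGroup.ker_mk', inf_comm E F] at h1
      have h3 : dl (F ⊓ E) = a := hΛdl
      have h2 : dl μ.range = a := by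
        rw [dl, ← Nat.card_congr (MonoidHom.ofInjective ((MonoidHom.ker_eq_bot_iff μ).mp
          ((Subgroup.eq_bot_iff_forall _).mpr fun x hx => hμinj x hx))).toEquiv]
        rfl
      omega
  -- the alternating form
  let β : A → A → V := fun x y => N (del φ (y : X) (del φ (x : X) w))
  have hcub : ∀ p q s : A, ∀ v, del φ (p : X) (del φ (q : X) (del φ (s : X) v)) = 1 :=
    fun p q s v => h.op.rep.cubic p p.2 q q.2 s s.2 v
  have hβ1 : ∀ p q s : A, β (p * q) s = β p s * β q s := fun p q s => by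
    simp only [β, Subgroup.coe_mul, del_mul, map_mul, hcub, map_one, mul_one]
  have hβ2 : ∀ p q s : A, β s (p * q) = β s p * β s q := fun p q s => by
    simp only [β, Subgroup.coe_mul, del_mul, map_mul, hcub, map_one, mul_one]
  have hβalt : ∀ x : A, β x x = 1 := fun x => by
    have h1 := del_mul φ (x : X) x w
    rw [hti.sq _ x.2, hV2, one_mul, (del_eq_one φ).mpr (apply_one φ w)] at h1
    simp only [β, ← h1, map_one]
  have hβρ : ∀ x y : A, β ⟨ρ * x * ρ⁻¹, h.conj_A x.2⟩ ⟨ρ * y * ρ⁻¹, h.conj_A y.2⟩ = β x y := fun x y => by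
    simp only [β]
    rw [← hCρ w hwC, ← h.apply_rho_del, ← h.apply_rho_del, hNρ, hCρ w hwC]
  have hβ : ∀ x y : A, β x y = 1 := by
    intro x y
    by_contra hne
    obtain ⟨χ, -, hχ⟩ := exists_functional hV2 (S := ⊥) (v := β x y) (by simpa using hne)
    let B : A →* A →* Z2 := MonoidHom.mk' (fun p => MonoidHom.mk' (fun q => χ (β p q))
      fun q q' => by rw [hβ2, map_mul]) fun p p' => MonoidHom.ext fun q => by
        show χ (β (p * p') q) = χ (β p q) * χ (β p' q)
        rw [hβ1, map_mul]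
    by_cases hnd : ∀ p, B p = 1 → p = 1
    · have h1 := even_of_alternating A B le_rfl hA2
        (fun p => by show χ (β p p) = 1; rw [hβalt, map_one]) hnd
      rw [show dl (⊤ : Subgroup A) = dl A by rw [dl, dl, Subgroup.card_top]] at h1
      exact Nat.not_even_iff_odd.mpr h.odd h1
    push Not at hnd
    obtain ⟨p, hp, hp1⟩ := hnd
    let R : Subgroup X := B.ker.map A.subtype
    have hle := h.irred_A (B := R) (Subgroup.map_subtype_le _)
      (fun e => hp1 (Subtype.ext (Subgroup.mem_bot.mp (e ▸ ⟨p, hp, rfl⟩)))) (by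
        rintro _ ⟨q, hq, rfl⟩
        refine ⟨⟨_, h.conj_A q.2⟩, MonoidHom.mem_ker.mpr (MonoidHom.ext fun s => ?_), rfl⟩
        have hs : (ρ⁻¹ * s * ρ : X) ∈ A := by
          have := hti.conj_mem (M.inv_mem h.mem) s.2; rwa [inv_inv] at this
        have h1 := hβρ q ⟨_, hs⟩
        have h2 : (⟨ρ * (ρ⁻¹ * s * ρ) * ρ⁻¹, h.conj_A hs⟩ : A) = s :=
          Subtype.ext (show ρ * (ρ⁻¹ * s * ρ) * ρ⁻¹ = (s : X) by group)
        rw [h2] at h1
        show χ (β _ s) = 1
        have h3 : χ (β q ⟨_, hs⟩) = 1 := DFunLike.congr_fun hq ⟨_, hs⟩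
        exact (congrArg χ h1).trans h3)
    obtain ⟨q, hq, hqx⟩ := hle x.2
    obtain rfl : q = x := Subtype.ext hqx
    exact hχ (DFunLike.congr_fun hq y)
  have hEA : ∀ y ∈ A, ∀ e ∈ E, del φ y e ∈ E := by
    intro y hy e he
    obtain ⟨x, hx⟩ := (hrange.symm ▸ ⟨e, he, rfl⟩ : QuotientGroup.mk' F e ∈ μ.range)
    have hf : del φ (x : X) w * e⁻¹ ∈ F := (eq_mk_iff F _ _).mp hx
    have h1 := hdelF y hy _ hf
    rw [map_mul, map_inv, mul_inv_eq_one] at h1
    exact MonoidHom.mem_ker.mpr (h1 ▸ hβ x ⟨y, hy⟩)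
  have hC' : ∀ w' ∈ C, ∀ y ∈ A, N (del φ y w') = 1 := by
    intro w' hw' y hy
    refine h.killed (W := V) (fun x => N (del φ x w')) (fun p hp q hq => ?_) (fun p hp => ?_) hy
    · have h2 : N (del φ p (del φ q w')) = 1 := by
        conv_lhs => rw [← inv_mul_cancel_right (del φ q w') (N (del φ q w'))]
        rw [map_mul, map_mul, hdelF p hp _ (hCA w' hw' q hq), map_one, mul_one]
        exact MonoidHom.mem_ker.mp (hEA p hp _ (hsplit _))
      rw [del_mul, map_mul, map_mul, h2, mul_one]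
    · show N (del φ (ρ * p * ρ⁻¹) w') = N (del φ p w')
      rw [show del φ (ρ * p * ρ⁻¹) w' = φ ρ (del φ p w') by rw [h.apply_rho_del, hCρ w' hw'], hNρ]
  have hVA : ∀ y ∈ A, ∀ v, del φ y v ∈ E := fun y hy v => by
    rw [← inv_mul_cancel_right v (N v), map_mul]
    exact E.mul_mem (hEA y hy _ (hsplit v)) (MonoidHom.mem_ker.mpr (hC' _ (hNC v) y hy))
  let S : Subgroup X :=
    { carrier := {g | ∀ v, del φ g v ∈ E}
      one_mem' := fun v => by rw [(del_eq_one φ).mpr (apply_one φ v)]; exact one_mem _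
      mul_mem' := fun {p q} hp hq v => by rw [del_mul]; exact E.mul_mem (E.mul_mem (hp v) (hq v)) (hp _)
      inv_mem' := fun {p} hp v => by
        have h1 := hp (φ p⁻¹ v)
        rw [del_apply, apply_inv'] at h1
        have h2 := E.inv_mem h1
        rwa [mul_inv_rev, inv_inv] at h2 }
  have hS : S = ⊤ := h.gen_top hVA fun x hx v => by
    have h1 := hEu _ (hVA x hx (φ u v))
    rwa [h.apply_u_del, ← apply_mul, h.invol, apply_one] at h1
  rcases h.op.irr E (fun g v hv => by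
    rw [apply_eq_del]
    exact E.mul_mem ((hS ▸ Subgroup.mem_top g : g ∈ S) v) hv) with he | he
  · exact hEne he
  · refine hwC2 ?_
    rw [hEC w (he ▸ Subgroup.mem_top w) hwC]
    exact C2.one_mem

end RhoData

end CfsgLib.SFreeW
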