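import Cfsg.Agent.Lib.SFreeW.TI
import Cfsg.Agent.Lib.SFreeW.Pairing

/-!
A TI subgroup of a group without a section `S₃` acting cubically: definitions, chief factors and the descent to
a factor.
-/

set_option autoImplicit false
set_option linter.unusedSectionVars false
set_option linter.style.haveILetI false

namespace CfsgLib.SFreeW

open CfsgLib.Fusion.SFreeFF CfsgLib.Fusion.CentralOffender

universe u

section Basic

variable {V : Type u} [CommGroup V] {G : Type u} [Group G] (φ : G →* MulAut V)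

/-- The commutator with a vector. -/
def del (x : G) : V →* V where
  toFun v := φ x v * v⁻¹
  map_one' := by rw [map_one, one_mul, inv_one]
  map_mul' a b := by rw [map_mul, mul_inv_rev]; ac_rfl

theorem del_apply (x : G) (v : V) : del φ x v = φ x v * v⁻¹ := rfl

theorem apply_eq_del (x : G) (v : V) : φ x v = del φ x v * v := by rw [del_apply, inv_mul_cancel_right]

theorem del_eq_one {x : G} {v : V} : del φ x v = 1 ↔ φ x v = v := mul_inv_eq_one

theorem del_mul (x y : G) (v : V) : del φ (x * y) v = del φ x v * del φ y v * del φ x (del φ y v) := by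
  simp only [del_apply, apply_mul, map_mul, map_inv, mul_inv_rev, inv_inv]
  set a := φ x (φ y v)
  set b := φ x v
  set c := φ y v
  calc a * v⁻¹ = a * v⁻¹ * (b * b⁻¹) * (c * c⁻¹) := by rw [mul_inv_cancel, mul_inv_cancel, mul_one, mul_one]
    _ = _ := by
      rw [show b * v⁻¹ * (c * v⁻¹) * (a * c⁻¹ * (v * b⁻¹)) = a * v⁻¹ * (b * b⁻¹) * (c * c⁻¹) * (v⁻¹ * v) by ac_rfl,
        inv_mul_cancel, mul_one]

theorem del_comm {x y : G} (h : x * y = y * x) (v : V) : φ x (del φ y v) = del φ y (φ x v) := by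
  rw [del_apply, del_apply, map_mul, map_inv, ← apply_mul, ← apply_mul, h]

/-- Invariance under a subgroup. -/
def Inv (L : Subgroup G) (U : Subgroup V) : Prop := ∀ l ∈ L, ∀ u ∈ U, φ l u ∈ U

/-- A nontrivial irreducible factor. -/
structure Fac (L : Subgroup G) (U0 U : Subgroup V) : Prop where
  le : U0 ≤ U
  inv0 : Inv φ L U0
  inv : Inv φ L U
  irr : ∀ W, U0 ≤ W → W ≤ U → Inv φ L W → W = U0 ∨ W = U
  nontriv : ∃ l ∈ L, ∃ u ∈ U, del φ l u ∉ U0

theorem inv_bot (L : Subgroup G) : Inv φ L ⊥ := fun l _ u hu => by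
  rw [Subgroup.mem_bot.mp hu, map_one]; exact one_mem _

theorem inv_top (L : Subgroup G) : Inv φ L ⊤ := fun _ _ _ _ => trivial

variable {φ}

/-- Without a nontrivial factor the group acts as a 2-group. -/
theorem exists_fac_or [Finite V] (h2 : Exp2 V) {L : Subgroup G} {U0 : Subgroup V} (h0 : Inv φ L U0) :
    ∀ {n : ℕ} {U1 : Subgroup V}, Nat.card U1 ≤ n → U0 ≤ U1 → Inv φ L U1 →
      (∃ W0 W1, Fac φ L W0 W1 ∧ U0 ≤ W0 ∧ W1 ≤ U1) ∨
      ∀ l ∈ L, ∃ k : ℕ, ∀ u ∈ U1, del φ (l ^ 2 ^ k) u ∈ U0 := by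
  intro n
  induction n with
  | zero => intro U1 h; exact absurd h (not_le.mpr Nat.card_pos)
  | succ n ih =>
    intro U1 hn hle h1
    rcases eq_or_lt_of_le hle with rfl | hlt
    · exact Or.inr fun l hl => ⟨0, fun u hu => U0.mul_mem (h0 _ (L.pow_mem hl _) u hu) (U0.inv_mem hu)⟩
    obtain ⟨W, ⟨hW0, hW1, hWi⟩, hWmax⟩ := Set.exists_max_image {W : Subgroup V | U0 ≤ W ∧ W < U1 ∧ Inv φ L W}
      (fun W => Nat.card W) (Set.toFinite _) ⟨U0, le_rfl, hlt, h0⟩
    have hirr : ∀ W', W ≤ W' → W' ≤ U1 → Inv φ L W' → W' = W ∨ W' = U1 := by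
      intro W' hW' hW'1 hi
      rcases eq_or_lt_of_le hW'1 with h | h
      · exact Or.inr h
      · exact Or.inl (Subgroup.eq_of_le_of_card_ge hW' (hWmax W' ⟨hW0.trans hW', h, hi⟩)).symm
    by_cases hnt : ∃ l ∈ L, ∃ u ∈ U1, del φ l u ∉ W
    · exact Or.inl ⟨W, U1, ⟨hW1.le, hWi, h1, hirr, hnt⟩, hW0, le_rfl⟩
    push Not at hnt
    have hcard : Nat.card W ≤ n := by
      have := Nat.lt_of_le_of_ne (Subgroup.card_le_of_le hW1.le) fun e =>
        hW1.ne (Subgroup.eq_of_le_of_card_ge hW1.le e.ge)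
      omega
    rcases ih hcard hW0 hWi with ⟨A0, A1, hf, ha, hb⟩ | h
    · exact Or.inl ⟨A0, A1, hf, ha, hb.trans hW1.le⟩
    refine Or.inr fun l hl => ?_
    obtain ⟨k, hk⟩ := h l hl
    refine ⟨k + 1, fun u hu => ?_⟩
    set m := l ^ 2 ^ k
    have hw := hnt m (L.pow_mem hl _) u hu
    have hw' := hk _ hw
    rw [show l ^ 2 ^ (k + 1) = m * m by rw [← pow_two, ← pow_mul, pow_succ], del_mul, h2, one_mul]
    exact hw'

end Basic

/-- The hypotheses of the theorem. -/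
structure Rep {X V : Type u} [Group X] [CommGroup V] (φ : X →* MulAut V) (A M : Subgroup X) : Prop where
  inj : Function.Injective φ
  exp : Exp2 V
  noS3 : NoS3 X
  core : Cfsg.pCore 2 X = ⊥
  ti : TI A M
  cubic : ∀ a ∈ A, ∀ b ∈ A, ∀ c ∈ A, ∀ v, del φ a (del φ b (del φ c v)) = 1

/-- The conclusion for all groups and modules of smaller total order. -/
def Below (n : ℕ) : Prop :=
  ∀ (X V : Type u) [Group X] [Finite X] [CommGroup V] [Finite V] (φ : X →* MulAut V) (A M : Subgroup X),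
    Nat.card X + Nat.card V < n → Rep φ A M → 2 * dl A + dl (fix φ A) ≤ dl (⊤ : Subgroup V)

namespace Rep

variable {X V : Type u} [Group X] [Finite X] [CommGroup V] [Finite V] {φ : X →* MulAut V} {A M : Subgroup X}

theorem card_sub (h : Rep φ A M) {B : Subgroup X} (hB : B ≤ A) : Nat.card B = 2 ^ dl B := by
  haveI : Fact (Nat.Prime 2) := ⟨Nat.prime_two⟩
  obtain ⟨k, hk⟩ := IsPGroup.iff_card.mp (h.ti.isPGroup.to_le hB)
  rw [dl, hk, Nat.log_pow one_lt_two]

theorem M_ne_top (h : Rep φ A M) : M ≠ ⊤ := fun ht => h.ti.ne (le_bot_iff.mp (h.core ▸ by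
  haveI : A.Normal := Subgroup.normalizer_eq_top_iff.mp (h.ti.norm.symm.trans ht)
  exact CfsgLib.Solvable.Cores.le_pCore h.ti.isPGroup))

theorem fac_exists (h : Rep φ A M) {L : Subgroup X} (hLM : ¬ L ≤ M) {a : X} (ha : a ∈ A) (ha1 : a ≠ 1)
    (haL : a ∈ L) : ∃ W0 W1, Fac φ L W0 W1 := by
  rcases exists_fac_or h.exp (inv_bot φ L) le_rfl bot_le (inv_top φ L) with ⟨W0, W1, hf, -, -⟩ | hs
  · exact ⟨W0, W1, hf⟩
  refine absurd (h.ti.pgroup_le ?_ ha ha1 haL) hLM
  intro l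
  obtain ⟨k, hk⟩ := hs l l.2
  refine ⟨k, Subtype.ext (h.inj (MulEquiv.ext fun v => ?_))⟩
  rw [SubmonoidClass.coe_pow, Subgroup.coe_one, apply_one]
  exact (del_eq_one φ).mp (Subgroup.mem_bot.mp (hk v trivial))

/-- The descent to a nontrivial factor of a minimal overgroup. -/
theorem descend (h : Rep φ A M) {n : ℕ} (IH : Below.{u} n) {L : Subgroup X} (hAL : A ⊓ L ≠ ⊥) (hLM : ¬ L ≤ M)
    (hmin : ∀ L' ≤ L, A ⊓ L ≤ L' → ¬ L' ≤ M → L' = L) {U0 U : Subgroup V} (hf : Fac φ L U0 U)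
    (hn : Nat.card L + (U0.relIndex U) < n) :
    2 * dl (A ⊓ L) + dl (fix φ (A ⊓ L) ⊓ U) + dl U0 ≤ dl U + dl (fix φ (A ⊓ L) ⊓ U0) := by
  haveI := finite_mulAut (U ⧸ U0.subgroupOf U)
  set B := A ⊓ L
  obtain ⟨a, haB, ha1⟩ : ∃ a ∈ B, a ≠ 1 := by
    by_contra hc
    push Not at hc
    exact hAL ((Subgroup.eq_bot_iff_forall _).mpr hc)
  have hU : ∀ l : L, ∀ u ∈ U, (φ.comp L.subtype) l u ∈ U := fun l u hu => hf.inv l l.2 u hu
  obtain ⟨ψ, hψmk⟩ : ∃ ψ : L →* MulAut (U ⧸ U0.subgroupOf U),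
      ∀ (l : L) (u : U), ψ l (QuotientGroup.mk u) = QuotientGroup.mk ⟨φ (l : X) u, hU l u u.2⟩ :=
    ⟨quot (restr (φ.comp L.subtype) U hU) (U0.subgroupOf U) fun l u hu => hf.inv0 l l.2 _ hu, fun l u => rfl⟩
  have hQ2 : Exp2 (U ⧸ U0.subgroupOf U) := (h.exp.subgroup U).quotient _
  have hirr : Irred ψ.range.subtype := by
    intro W hW
    set W' := (W.comap (QuotientGroup.mk' (U0.subgroupOf U))).map U.subtype
    have hW' : Inv φ L W' := by
      rintro l hl _ ⟨u, hu, rfl⟩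
      refine ⟨⟨φ l u, hf.inv l hl u u.2⟩, ?_, rfl⟩
      show QuotientGroup.mk (⟨φ l u, hf.inv l hl u u.2⟩ : U) ∈ W
      exact hψmk ⟨l, hl⟩ u ▸ hW ⟨ψ ⟨l, hl⟩, ⟨l, hl⟩, rfl⟩ (QuotientGroup.mk u) hu
    have h0 : U0 ≤ W' := fun u hu => ⟨⟨u, hf.le hu⟩, by
      show QuotientGroup.mk (⟨u, hf.le hu⟩ : U) ∈ W
      rw [(QuotientGroup.eq_one_iff _).mpr (show (⟨u, hf.le hu⟩ : U) ∈ U0.subgroupOf U from hu)]
      exact one_mem _, rfl⟩
    rcases hf.irr W' h0 (Subgroup.map_subtype_le _) hW' with e | e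
    · left
      refine (Subgroup.eq_bot_iff_forall _).mpr fun q hq => ?_
      obtain ⟨u, rfl⟩ := QuotientGroup.mk_surjective q
      have hu : (u : V) ∈ W' := ⟨u, hq, rfl⟩
      rw [e] at hu
      exact (QuotientGroup.eq_one_iff _).mpr hu
    · right
      refine eq_top_iff.mpr fun q _ => ?_
      obtain ⟨u, rfl⟩ := QuotientGroup.mk_surjective q
      obtain ⟨u', hu', he⟩ := (e.symm ▸ u.2 : (u : V) ∈ W')
      obtain rfl : u' = u := Subtype.ext he
      exact hu'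
  have hnt : ∃ r : ψ.range, r ≠ 1 := by
    obtain ⟨l, hl, u, hu, hd⟩ := hf.nontriv
    refine ⟨ψ.rangeRestrict ⟨l, hl⟩, fun he => hd ?_⟩
    have h1 : ψ ⟨l, hl⟩ = 1 := congrArg Subtype.val he
    have h2 := DFunLike.congr_fun h1 (QuotientGroup.mk (⟨u, hu⟩ : U))
    rw [hψmk, MulAut.one_apply] at h2
    exact (eq_mk_iff (U0.subgroupOf U) _ _).mp h2
  -- the image of `B`
  set B' := A.subgroupOf L with hB'
  have hmemB : ∀ {l : L}, l ∈ B' → (l : X) ∈ B := fun {l} hl => ⟨hl, l.2⟩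
  set A1 := B'.map ψ.rangeRestrict with hA1
  -- the kernel lies in `M`
  have hKM : ∀ k : L, ψ k = 1 → (k : X) ∈ M := by
    by_contra hc
    push Not at hc
    obtain ⟨k, hk, hkM⟩ := hc
    set L' := (B' ⊔ ψ.ker).map L.subtype
    have hL' : L' = L := hmin L' (Subgroup.map_subtype_le _)
      (fun x hx => ⟨⟨x, hx.2⟩, Subgroup.mem_sup_left hx.1, rfl⟩)
      (fun hle => hkM (hle ⟨k, Subgroup.mem_sup_right hk, rfl⟩))
    have htop : B' ⊔ ψ.ker = ⊤ := eq_top_iff.mpr fun l _ => by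
      obtain ⟨l', hl', he⟩ := (hL'.symm ▸ l.2 : (l : X) ∈ L')
      obtain rfl : l' = l := Subtype.ext he
      exact hl'
    have hA1top : A1 = ⊤ := by
      refine eq_top_iff.mpr fun r _ => ?_
      obtain ⟨l, rfl⟩ := ψ.rangeRestrict_surjective r
      have hl : l ∈ B' ⊔ ψ.ker := htop ▸ Subgroup.mem_top l
      have : B' ⊔ ψ.ker ≤ A1.comap ψ.rangeRestrict :=
        sup_le (Subgroup.le_comap_map _ _) fun x hx => by
          rw [Subgroup.mem_comap, show ψ.rangeRestrict x = 1 from Subtype.ext hx]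
          exact one_mem _
      exact this hl
    have hA1bot : A1 = ⊥ := eq_bot_of_normal_two (φ := ψ.range.subtype) Subtype.val_injective hQ2 hirr
      ((h.ti.isPGroup.comap_subtype (K := L)).map _) (by
        rw [hA1top, Subgroup.normalizer_eq_top])
    obtain ⟨r, hr⟩ := hnt
    exact hr (Subgroup.mem_bot.mp (hA1bot ▸ hA1top.symm ▸ Subgroup.mem_top r))
  have hK1 : ∀ l ∈ B', ψ l = 1 → l = 1 := by
    intro l hl hk
    by_contra h1
    refine hLM (h.ti.normal_le (K := ψ.ker.map L.subtype) ?_ ?_ hl (fun e => h1 (Subtype.ext e)) ⟨l, hk, rfl⟩)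
    · intro x hx
      refine Subgroup.mem_normalizer_iff.mpr fun y => ⟨?_, ?_⟩
      · rintro ⟨k, hk, rfl⟩
        exact ⟨⟨x, hx⟩ * k * ⟨x, hx⟩⁻¹, (MonoidHom.normal_ker ψ).conj_mem k hk _, rfl⟩
      · rintro ⟨k, hk, he⟩
        refine ⟨⟨x, hx⟩⁻¹ * k * ⟨x, hx⟩, by simpa using (MonoidHom.normal_ker ψ).conj_mem k hk ⟨x, hx⟩⁻¹, ?_⟩
        simp only [Subgroup.coe_subtype, Subgroup.coe_mul, InvMemClass.coe_inv] at he ⊢
        rw [he]
        group
    · rintro _ ⟨k, hk, rfl⟩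
      exact hKM k hk
  have hback : ∀ {l : L}, ψ.rangeRestrict l ∈ (M.subgroupOf L).map ψ.rangeRestrict → (l : X) ∈ M := by
    rintro l ⟨m, hm, he⟩
    have h1 : ψ (m⁻¹ * l) = 1 := by
      rw [map_mul, map_inv]; exact inv_mul_eq_one.mpr (congrArg Subtype.val he)
    simpa using M.mul_mem hm (hKM _ h1)
  have hTI : TI A1 ((M.subgroupOf L).map ψ.rangeRestrict) := by
    refine ⟨?_, ?_, ?_, ?_, ?_, ?_⟩
    · ext x
      obtain ⟨x, rfl⟩ := ψ.rangeRestrict_surjective x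
      constructor
      · rintro ⟨m, hm, he⟩
        rw [← he]
        exact Subgroup.le_normalizer_map _ ⟨m, (h.ti.restrict L hAL).norm ▸ hm, rfl⟩
      · intro hx
        refine ⟨x, ?_, rfl⟩
        have h1 := (Subgroup.mem_normalizer_iff.mp hx _).mp
          ⟨⟨a, haB.2⟩, show (⟨a, haB.2⟩ : L) ∈ B' from haB.1, rfl⟩
        rw [← map_inv, ← map_mul, ← map_mul] at h1
        exact h.ti.mem_M (g := (x : X)) haB.1 ha1
          (hback (l := x * ⟨a, haB.2⟩ * x⁻¹) (Subgroup.map_mono (show B' ≤ M.subgroupOf L from fun y hy => h.ti.le hy) h1))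
    · intro hbot
      have : ψ.rangeRestrict ⟨a, haB.2⟩ = 1 := Subgroup.mem_bot.mp (hbot ▸ ⟨⟨a, haB.2⟩, haB.1, rfl⟩)
      exact ha1 (congrArg Subtype.val (hK1 ⟨a, haB.2⟩ haB.1 (congrArg Subtype.val this)))
    · rintro _ ⟨c, hc, rfl⟩ _ ⟨d, hd, rfl⟩
      rw [← map_mul, ← map_mul]
      exact congrArg _ (Subtype.ext (h.ti.comm _ hc _ hd))
    · rintro _ ⟨c, hc, rfl⟩
      rw [← map_mul, show c * c = 1 from Subtype.ext (h.ti.sq _ hc), map_one]
    · rintro _ ⟨c, hc, rfl⟩ hc1 x hx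
      obtain ⟨x, rfl⟩ := ψ.rangeRestrict_surjective x
      refine ⟨x, ?_, rfl⟩
      show (x : X) ∈ M
      refine h.ti.mem_M hc (fun e => hc1 (by rw [show c = 1 from Subtype.ext e, map_one]))
        (hback (l := x * c * x⁻¹) ?_)
      rw [map_mul, map_mul, hx, map_inv, mul_inv_cancel_right]
      exact ⟨c, h.ti.le hc, rfl⟩
    · rintro _ ⟨c, hc, rfl⟩ x hx
      obtain ⟨x, rfl⟩ := ψ.rangeRestrict_surjective x
      rw [← map_inv, ← map_mul, ← map_mul] at hx ⊢
      exact ⟨x * c * x⁻¹, h.ti.mem _ hc (x : X) (hback hx), rfl⟩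
  have hrep : Rep ψ.range.subtype A1 ((M.subgroupOf L).map ψ.rangeRestrict) := by
    refine ⟨Subtype.val_injective, hQ2, noS3_range (noS3_subgroup h.noS3 L) ψ, ?_, hTI, ?_⟩
    · exact eq_bot_of_normal_two (φ := ψ.range.subtype) Subtype.val_injective hQ2 hirr
        (CfsgLib.Solvable.Cores.isPGroup_pCore 2)
        (Subgroup.normalizer_eq_top_iff.mpr (CfsgLib.Solvable.Cores.pCore_normal 2))
    · rintro _ ⟨x, hx, rfl⟩ _ ⟨y, hy, rfl⟩ _ ⟨z, hz, rfl⟩ q
      obtain ⟨u, rfl⟩ := QuotientGroup.mk_surjective q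
      have h1 := h.cubic _ hx _ hy _ hz (u : V)
      have key : ∀ (l : L) (u : U), del ψ.range.subtype (ψ.rangeRestrict l) (QuotientGroup.mk u) =
          QuotientGroup.mk ⟨del φ (l : X) u, U.mul_mem (hU l u u.2) (U.inv_mem u.2)⟩ := fun l u => by
        show ψ l (QuotientGroup.mk u) * (QuotientGroup.mk u)⁻¹ = _
        rw [hψmk]
        rfl
      rw [key, key, key]
      exact congrArg QuotientGroup.mk (Subtype.ext h1)
  have hcardQ : Nat.card (U ⧸ U0.subgroupOf U) = U0.relIndex U := rfl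
  have hcardR : Nat.card ψ.range ≤ Nat.card L := Nat.card_le_card_of_surjective _ ψ.rangeRestrict_surjective
  have hmain := IH ψ.range (U ⧸ U0.subgroupOf U) ψ.range.subtype A1 _ (by omega) hrep
  -- compare dimensions
  have hd1 : dl A1 = dl B := by
    have he : Nat.card A1 = Nat.card B := by
      rw [hA1]
      calc Nat.card (B'.map ψ.rangeRestrict) = Nat.card B' := by
            refine (Nat.card_eq_of_bijective (fun b : B' => (⟨ψ.rangeRestrict b, b, b.2, rfl⟩ :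
              (B'.map ψ.rangeRestrict : Subgroup ψ.range))) ⟨fun b c hbc => ?_, ?_⟩).symm
            · have h1 : ψ ((b : L)⁻¹ * c) = 1 := by
                rw [map_mul, map_inv]
                exact inv_mul_eq_one.mpr (congrArg Subtype.val (congrArg Subtype.val hbc))
              exact Subtype.ext (inv_mul_eq_one.mp (hK1 _ (B'.mul_mem (B'.inv_mem b.2) c.2) h1))
            · rintro ⟨_, b, hb, rfl⟩
              exact ⟨⟨b, hb⟩, rfl⟩
        _ = Nat.card B := by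
            rw [hB', ← Subgroup.inf_subgroupOf_right]
            exact Nat.card_congr (Subgroup.subgroupOfEquivOfLe inf_le_right).toEquiv
    rw [dl, dl, he]
  set F := fix φ B ⊓ U
  have hd2 : dl F ≤ dl (fix ψ.range.subtype A1) + dl (fix φ B ⊓ U0) := by
    have h1 := dl_map_add (h.exp.subgroup U) hQ2 (QuotientGroup.mk' (U0.subgroupOf U)) (F.subgroupOf U)
    have h2 : dl (F.subgroupOf U) = dl F := by
      rw [← dl_map_subtype, Subgroup.map_subgroupOf_eq_of_le inf_le_right]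
    have h3 : (F.subgroupOf U).map (QuotientGroup.mk' (U0.subgroupOf U)) ≤ fix ψ.range.subtype A1 := by
      rintro _ ⟨u, hu, rfl⟩ _ ⟨b, hb, rfl⟩
      show ψ b (QuotientGroup.mk u) = QuotientGroup.mk u
      rw [hψmk]
      exact congrArg QuotientGroup.mk (Subtype.ext (hu.1 _ (hmemB hb)))
    have h4 : dl (F.subgroupOf U ⊓ (QuotientGroup.mk' (U0.subgroupOf U)).ker) ≤ dl (fix φ B ⊓ U0) := by
      rw [QuotientGroup.ker_mk', ← dl_map_subtype]
      refine dl_mono ?_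
      rintro _ ⟨u, ⟨hu, hu0⟩, rfl⟩
      exact ⟨hu.1, hu0⟩
    have := dl_mono h3
    omega
  have hd3 : dl (⊤ : Subgroup (U ⧸ U0.subgroupOf U)) + dl U0 = dl U := by
    have h1 := dl_map_add (h.exp.subgroup U) hQ2 (QuotientGroup.mk' (U0.subgroupOf U)) ⊤
    rw [Subgroup.map_top_of_surjective _ (QuotientGroup.mk'_surjective _), QuotientGroup.ker_mk', top_inf_eq,
      dl_top_subgroup, ← dl_map_subtype U (U0.subgroupOf U), Subgroup.map_subgroupOf_eq_of_le hf.le] at h1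
    exact h1
  rw [hd1] at hmain
  omega

end Rep

/-- The weight of a subgroup inside a submodule is monotone. -/
theorem cd_le {X V : Type u} [Group X] [CommGroup V] [Finite V] (h2 : Exp2 V) (φ : X →* MulAut V)
    (B : Subgroup X) {U U' : Subgroup V} (h : U ≤ U') :
    dl U + dl (fix φ B ⊓ U') ≤ dl U' + dl (fix φ B ⊓ U) := by
  have h1 := dl_sup_add_inf h2 U (fix φ B ⊓ U')
  have h3 : U ⊓ (fix φ B ⊓ U') = fix φ B ⊓ U := by
    rw [← inf_assoc, inf_comm U, inf_assoc, inf_eq_left.mpr h]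
  have h4 := dl_mono (sup_le h inf_le_right : U ⊔ (fix φ B ⊓ U') ≤ U')
  rw [h3] at h1
  omega

end CfsgLib.SFreeW
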