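import Cfsg.Agent.Lib.SFreeW.MainTI.Setup
import Cfsg.Agent.Lib.SFreeW.MainTI.Poly

/-!
The case of an involution of `M` whose centraliser is not in `M`.
-/

set_option autoImplicit false
set_option linter.unusedSectionVars false
set_option linter.style.haveILetI false

namespace CfsgLib.SFreeW

open CfsgLib.Fusion.SFreeFF CfsgLib.Fusion.CentralOffender

universe u

/-- The action on functionals. -/
def dual {U : Type u} [CommGroup U] {G : Type u} [Group G] (σ : G →* MulAut U) : G →* MulAut (U →* Z2) where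
  toFun g :=
    { toFun := fun f => f.comp (σ g⁻¹).toMonoidHom
      invFun := fun f => f.comp (σ g).toMonoidHom
      left_inv := fun f => MonoidHom.ext fun v => by
        show f (σ g⁻¹ (σ g v)) = f v
        rw [apply_inv]
      right_inv := fun f => MonoidHom.ext fun v => by
        show f (σ g (σ g⁻¹ v)) = f v
        rw [apply_inv']
      map_mul' := fun _ _ => rfl }
  map_one' := MulEquiv.ext fun f => MonoidHom.ext fun v => by
    show f (σ (1 : G)⁻¹ v) = f v
    rw [inv_one, apply_one]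
  map_mul' g h := MulEquiv.ext fun f => MonoidHom.ext fun v => by
    show f (σ (g * h)⁻¹ v) = f (σ h⁻¹ (σ g⁻¹ v))
    rw [mul_inv_rev, apply_mul]

theorem dual_apply {U : Type u} [CommGroup U] {G : Type u} [Group G] (σ : G →* MulAut U) (g : G) (f : U →* Z2)
    (v : U) : dual σ g f v = f (σ g⁻¹ v) := rfl

/-- The fixed vectors of `ρ` modulo an invariant subgroup form a subgroup of the group. -/
def stabMod {U : Type u} [CommGroup U] {G : Type u} [Group G] [Finite G] (π : G →* MulAut U) (W0 : Subgroup U)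
    (h0 : Inv π ⊤ W0) (r : U) : Subgroup G where
  carrier := {g | del π g r ∈ W0}
  one_mem' := by
    show π 1 r * r⁻¹ ∈ W0
    rw [apply_one, mul_inv_cancel]; exact one_mem _
  mul_mem' := fun {a b} ha hb => by
    show del π (a * b) r ∈ W0
    rw [del_mul]
    exact W0.mul_mem (W0.mul_mem ha hb) (W0.mul_mem (h0 a trivial _ hb) (W0.inv_mem hb))
  inv_mem' := fun {a} ha => by
    show π a⁻¹ r * r⁻¹ ∈ W0
    have h1 := h0 a⁻¹ trivial _ (W0.inv_mem ha)
    rw [del_apply, mul_inv_rev, inv_inv, map_mul, map_inv (π a⁻¹), apply_inv] at h1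
    exact h1

/-- A functional moved by every nontrivial element of `A ⊓ L`. -/
theorem exists_functional_moved {G U : Type u} [Group G] [Finite G] [CommGroup U] [Finite U] (σ : G →* MulAut U)
    (hU : Exp2 U) {A M : Subgroup G} (h : TI A M) (hM : M ≠ ⊤) (hmin : ∀ L, A ≤ L → ¬ L ≤ M → L = ⊤)
    {I : Subgroup U} (hI : Inv σ ⊤ I) (hnt : ¬ ∀ g : G, ∃ k : ℕ, ∀ v, del σ (g ^ 2 ^ k) v ∈ I) :
    ∃ ρ : U →* Z2, (∀ v ∈ I, ρ v = 1) ∧ ∀ d ∈ A, d ≠ 1 → ∃ v, ρ (σ d v) ≠ ρ v := by
  haveI : Finite (U →* Z2) := finite_Z2hom U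
  set π := dual σ
  let D : Subgroup (U →* Z2) :=
    { carrier := {f | ∀ v ∈ I, f v = 1}
      one_mem' := fun _ _ => rfl
      mul_mem' := fun {a b} ha hb v hv => by show a v * b v = 1; rw [ha v hv, hb v hv, one_mul]
      inv_mem' := fun {a} ha v hv => by show (a v)⁻¹ = 1; rw [ha v hv, inv_one] }
  have hD : Inv π ⊤ D := fun g _ f hf v hv => by rw [dual_apply]; exact hf _ (hI g⁻¹ trivial v hv)
  rcases exists_fac_or (φ := π) exp2_Z2.hom (inv_bot π ⊤) le_rfl bot_le hD with ⟨W0, W1, hf, -, hW1⟩ | hs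
  swap
  · refine absurd (fun g => ?_) hnt
    obtain ⟨k, hk⟩ := hs g⁻¹ trivial
    refine ⟨k, fun v => ?_⟩
    by_contra hv
    obtain ⟨f, hf, hfv⟩ := exists_functional hU hv
    refine hfv ?_
    have h1 := DFunLike.congr_fun ((del_eq_one π).mp (Subgroup.mem_bot.mp (hk f hf))) v
    rw [dual_apply, inv_pow, inv_inv] at h1
    rw [del_apply, map_mul, map_inv, h1, mul_inv_cancel]
  obtain ⟨a, ha, ha1⟩ := h.exists_ne
  obtain ⟨x, -, hx⟩ := SetLike.exists_of_lt (lt_top_iff_ne_top.mpr hM)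
  set B'' := A.map (MulAut.conj x).toMonoidHom
  -- a vector fixed by the conjugate modulo `W0`
  have hinv1 : ∀ g : G, ∀ u ∈ W1, π g u ∈ W1 := fun g u hu => hf.inv g trivial u hu
  have hinv0 : ∀ g : G, ∀ u ∈ W0.subgroupOf W1, restr π W1 hinv1 g u ∈ W0.subgroupOf W1 :=
    fun g u hu => hf.inv0 g trivial _ hu
  have hne : fix (quot (restr π W1 hinv1) (W0.subgroupOf W1) hinv0) B'' ≠ ⊥ := by
    refine exists_fixed (h.isPGroup.map _) ((exp2_Z2.hom.subgroup W1).quotient _) fun hc => ?_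
    obtain ⟨l, hl, u, hu, hd⟩ := hf.nontriv
    haveI := (Nat.card_eq_one_iff_unique.1 hc).1
    refine hd ?_
    have he := Subsingleton.elim (QuotientGroup.mk (⟨π l u, hinv1 l u hu⟩ : W1) : W1 ⧸ W0.subgroupOf W1)
      (QuotientGroup.mk (⟨u, hu⟩ : W1))
    exact Subgroup.mem_subgroupOf.mp ((eq_mk_iff (W0.subgroupOf W1) _ _).mp he)
  obtain ⟨q, hq, hq1⟩ : ∃ q ∈ fix (quot (restr π W1 hinv1) (W0.subgroupOf W1) hinv0) B'', q ≠ 1 := by
    by_contra hc
    push Not at hc
    exact hne ((Subgroup.eq_bot_iff_forall _).mpr hc)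
  obtain ⟨⟨ρ, hρ1⟩, rfl⟩ := QuotientGroup.mk_surjective q
  have hρ0 : ρ ∉ W0 := fun hm => hq1 ((QuotientGroup.eq_one_iff _).mpr (Subgroup.mem_subgroupOf.mpr hm))
  refine ⟨ρ, hW1 hρ1, fun d hd hd1 => ?_⟩
  by_contra hall
  push Not at hall
  set St := stabMod π W0 hf.inv0 ρ
  have hdS : d ∈ St := by
    show π d ρ * ρ⁻¹ ∈ W0
    rw [show π d ρ = ρ from MonoidHom.ext fun v => by rw [dual_apply, h.inv_eq hd, hall v], mul_inv_cancel]
    exact one_mem _
  have hBS : B'' ≤ St := fun c hc =>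
    Subgroup.mem_subgroupOf.mp ((eq_mk_iff (W0.subgroupOf W1) _ _).mp (hq c hc))
  have htop : St = ⊤ := by
    have h1 := hmin (St.comap (MulAut.conj x).toMonoidHom) (fun c hc => hBS ⟨c, hc, rfl⟩) (fun hle => by
      have h2 : x⁻¹ * d * x ∈ M := hle (show x * (x⁻¹ * d * x) * x⁻¹ ∈ St by
        rw [show x * (x⁻¹ * d * x) * x⁻¹ = d by group]; exact hdS)
      refine hx (M.inv_mem_iff.mp (h.mem_M hd hd1 (g := x⁻¹) ?_))
      rwa [inv_inv])
    refine eq_top_iff.mpr fun g _ => ?_
    have h2 : x⁻¹ * g * x ∈ St.comap (MulAut.conj x).toMonoidHom := h1 ▸ Subgroup.mem_top _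
    have h3 : x * (x⁻¹ * g * x) * x⁻¹ ∈ St := h2
    rwa [show x * (x⁻¹ * g * x) * x⁻¹ = g by group] at h3
  set W := W0 ⊔ Subgroup.zpowers ρ
  have hWinv : Inv π ⊤ W := fun g _ u hu => by
    have h2 : W ≤ W.comap (π g).toMonoidHom := sup_le
      (fun w hw => Subgroup.mem_sup_left (hf.inv0 g trivial w hw)) (Subgroup.zpowers_le.mpr (by
        show π g ρ ∈ W
        rw [apply_eq_del]
        exact W.mul_mem (Subgroup.mem_sup_left (htop ▸ Subgroup.mem_top g : g ∈ St))
          (Subgroup.mem_sup_right (Subgroup.mem_zpowers ρ))))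
    exact h2 hu
  rcases hf.irr W le_sup_left (sup_le hf.le (Subgroup.zpowers_le.mpr hρ1)) hWinv with he | he
  · exact hρ0 (he ▸ Subgroup.mem_sup_right (Subgroup.mem_zpowers ρ))
  · obtain ⟨l, -, u, hu, hd'⟩ := hf.nontriv
    refine hd' ?_
    have h2 : W ≤ W0.comap (del π l) := sup_le
      (fun w hw => W0.mul_mem (hf.inv0 l trivial w hw) (W0.inv_mem hw))
      (Subgroup.zpowers_le.mpr (htop ▸ Subgroup.mem_top l : l ∈ St))
    exact h2 (he.symm ▸ hu)

/-- A 2-power of an element acting trivially on the three steps of the series. -/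
theorem del_pow_eq_one {V G : Type u} [CommGroup V] [Group G] (φ : G →* MulAut V) (h2 : Exp2 V)
    {I C : Subgroup V} {m : G} (hI : ∀ v ∈ I, del φ m v = 1) (hC : ∀ v ∈ C, del φ m v ∈ I)
    (hV : ∀ v, del φ m v ∈ C) (v : V) : del φ ((m * m) * (m * m)) v = 1 := by
  have h1 : ∀ v, del φ (m * m) v = del φ m (del φ m v) := fun v => by rw [del_mul, h2, one_mul]
  rw [del_mul, h2, one_mul, h1, h1, hI _ (hC _ (hV v)), map_one]

namespace Rep

variable {X V : Type u} [Group X] [Finite X] [CommGroup V] [Finite V] {φ : X →* MulAut V} {A M : Subgroup X}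

theorem poly_step (h : Rep φ A M) {B : Subgroup X} (hB : B ≤ A) {X0 I : Subgroup V} (hIX : I ≤ X0)
    (hX0 : ∀ a ∈ A, ∀ v ∈ X0, φ a v ∈ X0) (hBfix : X0 ≤ fix φ B) (hFX : fix φ A ≤ X0) (ρ : X0 →* Z2)
    (hρ : ∀ a (ha : a ∈ A), a ∉ B →
      ∃ i, ∃ hi : i ∈ I, ρ ⟨del φ a i, X0.mul_mem (hX0 a ha i (hIX hi)) (X0.inv_mem (hIX hi))⟩ ≠ 1) :
    2 * dl A + dl (fix φ A) ≤ dl I + dl X0 + 2 * dl B := by
  classical
  letI : CommGroup A := { (inferInstance : Group A) with mul_comm := fun a b => Subtype.ext (h.ti.comm a a.2 b b.2) }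
  set F := (fix φ A).subgroupOf X0
  haveI := finite_Z2hom (X0 ⧸ F)
  haveI := finite_Z2hom I
  have hA2 : Exp2 A := fun a => Subtype.ext (h.ti.sq a a.2)
  let δ : A → X0 →* X0 := fun a =>
    { toFun := fun v => ⟨del φ (a : X) v, X0.mul_mem (hX0 a a.2 v v.2) (X0.inv_mem v.2)⟩
      map_one' := Subtype.ext (map_one (del φ (a : X)))
      map_mul' := fun u v => Subtype.ext (map_mul (del φ (a : X)) _ _) }
  have hδF : ∀ a, F ≤ (ρ.comp (δ a)).ker := fun a v hv => by
    rw [MonoidHom.mem_ker, MonoidHom.comp_apply, show δ a v = 1 from Subtype.ext ((del_eq_one φ).mpr (hv a a.2)),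
      map_one]
  let g0 : A → ((X0 ⧸ F) →* Z2) := fun a => QuotientGroup.lift F (ρ.comp (δ a)) (hδF a)
  have hg0 : ∀ a (v : X0), g0 a (QuotientGroup.mk v) = ρ (δ a v) := fun a v => rfl
  have hext : ∀ {f f' : (X0 ⧸ F) →* Z2}, (∀ v : X0, f (QuotientGroup.mk v) = f' (QuotientGroup.mk v)) → f = f' :=
    fun hh => MonoidHom.ext fun q => QuotientGroup.induction_on q hh
  have hδmul : ∀ a b v, δ (a * b) v = δ a v * δ b v * δ a (δ b v) := fun a b v =>
    Subtype.ext (del_mul φ (a : X) b v)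
  have hpol : ∀ a b (v : X0), pol g0 a b (QuotientGroup.mk v) = ρ (δ a (δ b v)) := fun a b v => by
    rw [pol, MonoidHom.mul_apply, MonoidHom.mul_apply, hg0, hg0, hg0, hδmul, map_mul, map_mul]
    generalize ρ (δ a v) = p
    generalize ρ (δ b v) = q
    generalize ρ (δ a (δ b v)) = r
    revert p q r
    decide
  set Bs := B.subgroupOf A
  have hker : ∀ a, ∀ c ∈ Bs, g0 (a * c) = g0 a := by
    intro a c hc
    refine hext fun v => ?_
    rw [hg0, hg0, hδmul, show δ c v = 1 from Subtype.ext ((del_eq_one φ).mpr (hBfix v.2 c hc)), map_one, mul_one,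
      mul_one]
  let g : A ⧸ Bs → ((X0 ⧸ F) →* Z2) := Quotient.lift g0 (by
    intro x y hxy
    have hk : x⁻¹ * y ∈ Bs := QuotientGroup.leftRel_apply.mp hxy
    have := hker x _ hk
    rw [mul_inv_cancel_left] at this
    exact this.symm)
  have hg : ∀ a : A, g (QuotientGroup.mk a) = g0 a := fun _ => rfl
  have hgpol : ∀ (a b : A) (v : X0),
      pol g (QuotientGroup.mk a) (QuotientGroup.mk b) (QuotientGroup.mk v) = ρ (δ a (δ b v)) := fun a b v => by
    rw [← hpol, pol, pol, ← QuotientGroup.mk_mul, hg, hg, hg]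
  let π : ((X0 ⧸ F) →* Z2) →* (I →* Z2) :=
    pre ((QuotientGroup.mk' F).comp (Subgroup.inclusion hIX))
  have hcub : ∀ a b c v, δ a (δ b (δ c v)) = 1 := fun a b c v =>
    Subtype.ext (h.cubic a a.2 b b.2 c c.2 v)
  have key := two_mul_dl_le (G := A ⧸ Bs) (P := (X0 ⧸ F) →* Z2) (Q := I →* Z2) (hA2.quotient Bs) exp2_Z2.hom
    exp2_Z2.hom g π (by
      show g0 1 = 1
      refine hext fun v => ?_
      rw [hg0, show δ 1 v = 1 from Subtype.ext ((del_eq_one φ).mpr (apply_one φ _)), map_one]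
      rfl) (by
      intro x y z
      induction x using QuotientGroup.induction_on with
      | H x => induction y using QuotientGroup.induction_on with
        | H y => induction z using QuotientGroup.induction_on with
          | H z =>
            refine hext fun v => ?_
            rw [← QuotientGroup.mk_mul, MonoidHom.mul_apply, hgpol, hgpol, hgpol, hδmul, hcub, mul_one, map_mul])
    (by
      intro k hk y
      induction k using QuotientGroup.induction_on with
      | H k => induction y using QuotientGroup.induction_on with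
        | H y =>
          refine hext fun v => ?_
          have h0 : ∀ f ∈ Subgroup.closure (Set.range fun p : (A ⧸ Bs) × (A ⧸ Bs) => pol g p.1 p.2),
              f (QuotientGroup.mk (δ y v)) = 1 := by
            intro f hf
            induction hf using Subgroup.closure_induction with
            | mem f hf =>
              obtain ⟨⟨p, q⟩, rfl⟩ := hf
              induction p using QuotientGroup.induction_on with
              | H p => induction q using QuotientGroup.induction_on with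
                | H q => show pol g _ _ _ = 1; rw [hgpol, hcub, map_one]
            | one => rfl
            | mul f f' _ _ e1 e2 => rw [MonoidHom.mul_apply, e1, e2, one_mul]
            | inv f _ e1 => rw [MonoidHom.inv_apply, e1, inv_one]
          rw [hgpol, ← hg0, ← hg, h0 _ hk]
          rfl)
    (by
      intro x hx
      induction x using QuotientGroup.induction_on with
      | H x =>
        by_contra hne
        obtain ⟨i, hi, hρi⟩ := hρ x x.2 fun hm => hne ((QuotientGroup.eq_one_iff x).mpr hm)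
        exact hρi (DFunLike.congr_fun hx ⟨i, hi⟩))
  have h1 := dl_functional_le ((h.exp.subgroup X0).quotient F)
  have h2 := dl_quotient (h.exp.subgroup X0) F
  have h3 := dl_functional_le (h.exp.subgroup I)
  have h4 := dl_quotient hA2 Bs
  rw [dl_top_subgroup, ← dl_map_subtype X0 F, Subgroup.map_subgroupOf_eq_of_le hFX] at h2
  rw [dl_top_subgroup] at h3
  have h5 : dl Bs = dl B := by
    rw [dl, dl, Nat.card_congr (Subgroup.subgroupOfEquivOfLe hB).toEquiv]
  have h6 : dl (⊤ : Subgroup A) = dl A := by rw [dl, dl, Subgroup.card_top]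
  omega

/-- The theorem when some involution of `M` has its centraliser outside `M`. -/
theorem two_point (h : Rep φ A M) {n : ℕ} (IH : Below.{u} n) (hn : Nat.card X + Nat.card V ≤ n)
    (hmax : ∀ L, A ≤ L → ¬ L ≤ M → L = ⊤) (hirr : Irred φ) {t : X} (htM : t ∈ M) (ht2 : t * t = 1)
    (ht1 : t ≠ 1) (htC : ¬ Subgroup.centralizer ({t} : Set X) ≤ M) :
    2 * dl A + dl (fix φ A) ≤ dl (⊤ : Subgroup V) := by
  classical
  haveI : Fact (Nat.Prime 2) := ⟨Nat.prime_two⟩
  set C := Subgroup.centralizer ({t} : Set X) with hC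
  set B := A ⊓ C with hBdef
  have hti : t⁻¹ = t := inv_eq_of_mul_eq_one_right ht2
  have hCtop : C ≠ ⊤ := fun he => ht1 (by
    have hcen : ∀ x, x * t = t * x := fun x =>
      Subgroup.mem_centralizer_singleton_iff.mp ((hC ▸ he.symm) ▸ Subgroup.mem_top x : x ∈ Subgroup.centralizer {t})
    haveI := zpowers_normal hcen
    exact Subgroup.mem_bot.mp (h.core ▸ CfsgLib.Solvable.Cores.le_pCore
      (isPGroup_zpowers_of_sq ht2) (Subgroup.mem_zpowers t)))
  -- the commutator with `t` on `A`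
  have hτ : ∀ x ∈ A, x * (t * x * t) ∈ B := by
    intro x hx
    have h1 : t * x * t ∈ A := by have := h.ti.conj_mem htM hx; rwa [hti] at this
    refine ⟨A.mul_mem hx h1, Subgroup.mem_centralizer_singleton_iff.mpr ?_⟩
    calc x * (t * x * t) * t = x * t * x := by rw [mul_assoc, mul_assoc (t * x), ht2, mul_one, mul_assoc]
      _ = t * ((t * x * t) * x) := by
          rw [show t * ((t * x * t) * x) = (t * t) * x * t * x by group, ht2, one_mul]
      _ = t * (x * (t * x * t)) := by rw [h.ti.comm _ h1 x hx]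
  have hab : dl A ≤ 2 * dl B := by
    let τ : A →* A :=
      { toFun := fun x => ⟨x * (t * x * t), (hτ x x.2).1⟩
        map_one' := Subtype.ext (by simp [ht2])
        map_mul' := fun x y => Subtype.ext (by
          show (x : X) * y * (t * (x * y) * t) = x * (t * x * t) * (y * (t * y * t))
          have h1 : t * (x : X) * t ∈ A := by have := h.ti.conj_mem htM x.2; rwa [hti] at this
          calc (x : X) * y * (t * (x * y) * t) = x * (y * (t * x * t)) * (t * y * t) := by
                rw [show (x : X) * (y * (t * x * t)) * (t * y * t) = x * y * (t * x * (t * t) * y * t) by group,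
                  ht2]
                group
            _ = x * ((t * x * t) * y) * (t * y * t) := by rw [h.ti.comm _ h1 y y.2]
            _ = _ := by group) }
    have hk : Nat.card τ.ker ≤ Nat.card B := by
      refine Nat.card_le_card_of_injective (fun x => (⟨((x : A) : X), (x : A).2, ?_⟩ : B))
        fun x y e => Subtype.ext (Subtype.ext (show ((x : A) : X) = ((y : A) : X) from congrArg (fun z : B => (z : X)) e))
      have h1 : ((x : A) : X) * (t * (x : A) * t) = 1 := congrArg Subtype.val (MonoidHom.mem_ker.mp x.2)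
      rw [show t * ((x : A) : X) * t = ((x : A) : X)⁻¹ * (((x : A) : X) * (t * (x : A) * t)) by group] at *
      refine Subgroup.mem_centralizer_singleton_iff.mpr ?_
      have h2 : t * ((x : A) : X) * t = ((x : A) : X) := by
        rw [show t * ((x : A) : X) * t = ((x : A) : X)⁻¹ * (((x : A) : X) * (t * (x : A) * t)) by group, ]
        have := congrArg Subtype.val (MonoidHom.mem_ker.mp x.2)
        simp only [τ] at this
        change ((x : A) : X) * (t * (x : A) * t) = 1 at this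
        rw [this, mul_one, h.ti.inv_eq (x : A).2]
      calc ((x : A) : X) * t = t * ((x : A) : X) * t * t := by rw [h2]
        _ = t * (x : A) := by rw [mul_assoc, ht2, mul_one]
    have hr : Nat.card τ.range ≤ Nat.card B := by
      refine Nat.card_le_card_of_injective (fun x => (⟨((x : A) : X), ?_⟩ : B))
        fun x y e => Subtype.ext (Subtype.ext (show ((x : A) : X) = ((y : A) : X) from congrArg (fun z : B => (z : X)) e))
      obtain ⟨_, w, rfl⟩ := x
      exact hτ w w.2
    have h1 : Nat.card A = Nat.card τ.range * Nat.card τ.ker := by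
      rw [← τ.ker.index_mul_card, Subgroup.index_ker]
    have h2 : 2 ^ dl A ≤ 2 ^ dl B * 2 ^ dl B := by
      rw [← h.card_sub le_rfl, ← h.card_sub (B := B) inf_le_left, h1]
      exact Nat.mul_le_mul hr hk
    rw [← pow_add] at h2
    have := (Nat.pow_le_pow_iff_right one_lt_two).mp h2
    omega
  -- the minimal subgroup
  have hBne : B ≠ ⊥ := fun he => by
    rw [he, show dl (⊥ : Subgroup X) = 0 by rw [dl, Subgroup.card_bot, Nat.log_one_right]] at hab
    have := h.card_sub (le_refl A)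
    rw [Nat.le_zero.mp hab, pow_zero] at this
    exact h.ti.ne (Subgroup.card_eq_one.mp this)
  obtain ⟨L, ⟨hLC, hBL, hLM⟩, hLmin⟩ := Set.exists_min_image {L : Subgroup X | L ≤ C ∧ B ≤ L ∧ ¬ L ≤ M}
    (fun L => Nat.card L) (Set.toFinite _) ⟨C, le_rfl, inf_le_right, htC⟩
  have hAL : A ⊓ L = B := le_antisymm (inf_le_inf_left _ hLC) (le_inf inf_le_left hBL)
  have hmin : ∀ L' ≤ L, A ⊓ L ≤ L' → ¬ L' ≤ M → L' = L := fun L' h1 h2 h3 =>
    Subgroup.eq_of_le_of_card_ge h1 (hLmin L' ⟨h1.trans hLC, hAL ▸ h2, h3⟩)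
  obtain ⟨a₁, ha₁B, ha₁⟩ : ∃ a ∈ B, a ≠ 1 := by
    by_contra hc
    push Not at hc
    exact hBne ((Subgroup.eq_bot_iff_forall _).mpr hc)
  have hLlt : Nat.card L < Nat.card X :=
    lt_of_le_of_ne (Subgroup.card_le_card_group L) fun e =>
      hCtop (top_le_iff.mp ((Subgroup.eq_top_of_card_eq L e) ▸ hLC))
  have hdesc : ∀ {W0 W1 : Subgroup V}, Fac φ L W0 W1 →
      2 * dl B + dl (fix φ B ⊓ W1) + dl W0 ≤ dl W1 + dl (fix φ B ⊓ W0) := by
    intro W0 W1 hf
    have hrel : W0.relIndex W1 ≤ Nat.card V :=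
      (Nat.le_of_dvd Nat.card_pos (Subgroup.index_dvd_card _)).trans (Subgroup.card_le_card_group W1)
    have := h.descend IH (hAL.symm ▸ hBne) hLM hmin hf (by omega)
    rwa [hAL] at this
  set T := del φ t
  set I := T.range
  set Ct := T.ker
  have hTv : ∀ {l : X}, l ∈ L → ∀ v, φ l (T v) = T (φ l v) := fun hl v =>
    del_comm φ (Subgroup.mem_centralizer_singleton_iff.mp (hLC hl)) v
  have hIinv : Inv φ L I := by
    rintro l hl _ ⟨v, rfl⟩
    exact ⟨φ l v, (hTv hl v).symm⟩
  have hCinv : Inv φ L Ct := fun l hl v hv => by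
    show T (φ l v) = 1
    rw [← hTv hl, MonoidHom.mem_ker.mp hv, map_one]
  have hIC : I ≤ Ct := by
    rintro _ ⟨v, rfl⟩
    refine MonoidHom.mem_ker.mpr ?_
    show φ t (φ t v * v⁻¹) * (φ t v * v⁻¹)⁻¹ = 1
    rw [map_mul, map_inv, ← apply_mul, ht2, apply_one, mul_inv_eq_one]
    have := exp2_inv h.exp v
    rw [this, exp2_inv h.exp (φ t v), mul_comm]
  have hdimV : dl Ct + dl I = dl (⊤ : Subgroup V) := by
    have := dl_map_add h.exp h.exp T ⊤
    rw [top_inf_eq, ← MonoidHom.range_eq_map] at this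
    simp only [I, Ct]
    omega
  have hfixB : dl (fix φ B) ≤ dl (fix φ B ⊓ Ct) + dl (fix φ B ⊓ I) := by
    have h1 := dl_map_add h.exp h.exp T (fix φ B)
    have h2 : (fix φ B).map T ≤ fix φ B ⊓ I := by
      rintro _ ⟨v, hv, rfl⟩
      refine ⟨fun b hb => ?_, v, rfl⟩
      rw [del_comm φ (Subgroup.mem_centralizer_singleton_iff.mp hb.2), hv b hb]
    have := dl_mono h2
    simp only [Ct]
    omega
  have hCI := cd_le h.exp φ B hIC
  have hAB : dl (fix φ A) ≤ dl (fix φ B) := dl_mono (fix_anti φ inf_le_left)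
  -- no factor in `I`
  rcases exists_fac_or h.exp (inv_bot φ L) le_rfl bot_le hIinv with ⟨W0, W1, hf, -, hW1⟩ | hI
  · have h1 := hdesc hf
    have h2 := cd_le h.exp φ B hW1
    have h3 := dl_mono (inf_le_right : fix φ B ⊓ W0 ≤ W0)
    omega
  -- a factor between `I` and `Ct`
  have hnone : ¬ ∀ l ∈ L, ∃ k : ℕ, ∀ v ∈ Ct, del φ (l ^ 2 ^ k) v ∈ I := by
    intro hC'
    refine hLM (h.ti.pgroup_le (P := L) ?_ ha₁B.1 ha₁ (hBL ha₁B))
    intro l
    obtain ⟨k, hk⟩ := hC' l l.2
    obtain ⟨j, hj⟩ := hI ((l : X) ^ 2 ^ k) (L.pow_mem l.2 _)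
    set m := ((l : X) ^ 2 ^ k) ^ 2 ^ j with hm
    have hmI : ∀ v ∈ I, del φ m v = 1 := fun v hv => Subgroup.mem_bot.mp (hj v hv)
    have hmC : ∀ v ∈ Ct, del φ m v ∈ I := by
      intro v hv
      have : ∀ i : ℕ, ∀ v ∈ Ct, del φ (((l : X) ^ 2 ^ k) ^ i) v ∈ I := by
        intro i
        induction i with
        | zero => intro v _; rw [pow_zero, del_apply, apply_one, mul_inv_cancel]; exact one_mem _
        | succ i ih =>
          intro v hv
          rw [pow_succ', del_mul]
          have h1 := ih v hv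
          exact I.mul_mem (I.mul_mem (hk v hv) h1) (hk _ (hIC h1))
      exact this _ v hv
    have hmV : ∀ v, del φ m v ∈ Ct := by
      intro v
      have hmL : m ∈ L := L.pow_mem (L.pow_mem l.2 _) _
      refine MonoidHom.mem_ker.mpr ?_
      have h1 : T (del φ m v) = del φ m (T v) := by
        show T (φ m v * v⁻¹) = _
        rw [map_mul, map_inv, ← hTv hmL]
        rfl
      rw [h1]
      exact hmI _ ⟨v, rfl⟩
    refine ⟨k + j + 2, Subtype.ext (h.inj (MulEquiv.ext fun v => ?_))⟩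
    rw [SubmonoidClass.coe_pow, Subgroup.coe_one, apply_one]
    have he : (l : X) ^ 2 ^ (k + j + 2) = (m * m) * (m * m) := by
      rw [hm, ← pow_mul, ← pow_add, ← pow_add, ← pow_add]
      congr 1
      ring
    rw [he]
    exact (del_eq_one φ).mp (del_pow_eq_one φ h.exp hmI hmC hmV v)
  rcases exists_fac_or h.exp hIinv le_rfl hIC hCinv with ⟨W0, W1, hf, hW0, hW1⟩ | hC'
  swap
  · exact absurd hC' hnone
  have hfac := hdesc hf
  have hcW0 := cd_le h.exp φ B hW0
  have hcW1 := cd_le h.exp φ B hW1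
  -- the kernel of `L` on `I`
  haveI := finite_mulAut (↥I)
  have hIr : ∀ l : L, ∀ u ∈ I, (φ.comp L.subtype) l u ∈ I := fun l u hu => hIinv l l.2 u hu
  set f := restr (φ.comp L.subtype) I hIr with hfdef
  have hfk : ∀ {l : L}, f l = 1 ↔ ∀ v ∈ I, φ (l : X) v = v := fun {l} =>
    ⟨fun e v hv => congrArg Subtype.val (DFunLike.congr_fun e (⟨v, hv⟩ : I)),
      fun e => MulEquiv.ext fun v => Subtype.ext (e v v.2)⟩
  have hti' := h.ti.restrict L (hAL.symm ▸ hBne)
  set A' := A.subgroupOf L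
  set M' := M.subgroupOf L
  have hM' : M' ≠ ⊤ := fun e => hLM (Subgroup.subgroupOf_eq_top.mp e)
  have hmin' : ∀ L'' : Subgroup L, A' ≤ L'' → ¬ L'' ≤ M' → L'' = ⊤ := by
    intro L'' h1 h2
    have h3 := hmin (L''.map L.subtype) (Subgroup.map_subtype_le _) (fun x hx => ⟨⟨x, hx.2⟩, h1 hx.1, rfl⟩)
      (fun hle => h2 fun x hx => hle ⟨x, hx, rfl⟩)
    refine eq_top_iff.mpr fun x _ => ?_
    obtain ⟨y, hy, he⟩ := (h3.symm ▸ x.2 : (x : X) ∈ L''.map L.subtype)
    obtain rfl : y = x := Subtype.ext he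
    exact hy
  have hf2 : IsPGroup 2 ((⊤ : Subgroup L).map f) := by
    rintro ⟨_, l, -, rfl⟩
    obtain ⟨k, hk⟩ := hI l l.2
    refine ⟨k, Subtype.ext ?_⟩
    rw [SubmonoidClass.coe_pow, Subgroup.coe_one, ← map_pow, hfk]
    intro v hv
    exact (del_eq_one φ).mp (Subgroup.mem_bot.mp (hk v hv))
  have hKM : ¬ f.ker ≤ M' := by
    intro hle
    obtain ⟨P, hP, hAP⟩ := exists_sylIn (le_top : A' ≤ ⊤) hti'.isPGroup
    obtain ⟨a', ha', ha'1⟩ := hti'.exists_ne
    have hPM : P ≤ M' := hti'.pgroup_le hP.pgroup ha' ha'1 (hAP ha')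
    refine hM' (eq_top_iff.mpr fun l _ => ?_)
    obtain ⟨p, hp, he⟩ := (hP.map_eq f hf2).ge ⟨l, trivial, rfl⟩
    have hk : p⁻¹ * l ∈ f.ker := by rw [MonoidHom.mem_ker, map_mul, map_inv, he, inv_mul_cancel]
    simpa using M'.mul_mem (hPM hp) (hle hk)
  have hKA : f.ker ⊔ A' = ⊤ := hmin' _ le_sup_right fun hle => hKM (le_sup_left.trans hle)
  by_cases hmoves : ∃ b ∈ B, ∃ v ∈ I, φ b v ≠ v
  · obtain ⟨b, hb, v, hv, hne⟩ := hmoves
    have h1 : dl (fix φ B ⊓ I) < dl I := by
      refine lt_of_le_of_ne (dl_mono inf_le_right) fun e => hne ?_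
      exact (((eq_of_dl_le h.exp inf_le_right e.ge).symm.le hv).1) b hb
    have hb1 : dl B ≤ 1 := by
      by_contra hlt
      have hbL : b ∈ L := hBL hb
      have hbA : (⟨b, hbL⟩ : L) ∈ A' := hb.1
      have hbne : (⟨b, hbL⟩ : L) ≠ 1 := fun e => hne (by rw [show b = 1 from congrArg Subtype.val e]; exact apply_one φ v)
      have hcomm : ∀ l c : L, c ∈ A' → l * c * l⁻¹ * c⁻¹ ∈ f.ker := by
        intro l c hc
        rw [MonoidHom.mem_ker, map_mul, map_mul, map_mul, map_inv, map_inv]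
        have hl : l ∈ f.ker ⊔ A' := hKA ▸ Subgroup.mem_top l
        have hcomm' : Commute (f c) (f l) := by
          have hle : f.ker ⊔ A' ≤ (Subgroup.centralizer {f c}).comap f := sup_le
            (fun x hx => Subgroup.mem_centralizer_singleton_iff.mpr (by rw [MonoidHom.mem_ker.mp hx, one_mul, mul_one]))
            (fun x hx => Subgroup.mem_centralizer_singleton_iff.mpr (by
              rw [← map_mul, ← map_mul, hti'.comm x hx c hc]))
          exact (Subgroup.mem_centralizer_singleton_iff.mp (hle hl)).symm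
        rw [← hcomm'.eq, mul_inv_cancel_right, mul_inv_cancel]
      have hone : ∀ c ∈ A', c ≠ 1 → c = ⟨b, hbL⟩ := by
        intro c hc hc1
        obtain ⟨l, hl⟩ := TI.all_conj le_rfl hti' hM' hc hc1 hbA hbne
        have hm := hcomm l c hc
        rw [hl] at hm
        have hmA : (⟨b, hbL⟩ : L) * c⁻¹ ∈ A' := A'.mul_mem hbA (A'.inv_mem hc)
        by_cases he : (⟨b, hbL⟩ : L) * c⁻¹ = 1
        · exact (mul_inv_eq_one.mp he).symm
        · obtain ⟨l', hl'⟩ := TI.all_conj le_rfl hti' hM' hmA he hbA hbne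
          have hbk : (⟨b, hbL⟩ : L) ∈ f.ker := hl' ▸ (MonoidHom.normal_ker f).conj_mem _ hm l'
          exact absurd (hfk.mp hbk v hv) hne
      have hsub : Nat.card B ≤ 2 := by
        refine le_trans (Nat.card_le_card_of_injective
          (fun c : B => (if (c : X) = 1 then (0 : Fin 2) else 1)) fun c d e => ?_) (by simp)
        by_cases hc : (c : X) = 1 <;> by_cases hd : (d : X) = 1 <;> simp [hc, hd] at e
        · exact Subtype.ext (hc.trans hd.symm)
        · have key : ∀ c : B, (c : X) ≠ 1 → (c : X) = b := fun c hc =>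
            congrArg Subtype.val (hone ⟨c, hBL c.2⟩ c.2.1 fun e => hc (congrArg Subtype.val e))
          exact Subtype.ext ((key c hc).trans (key d hd).symm)
      rw [h.card_sub (B := B) inf_le_left] at hsub
      have : dl B ≤ 1 := (Nat.pow_le_pow_iff_right one_lt_two).mp (by simpa using hsub)
      exact hlt this
    omega
  push Not at hmoves
  have hBker : A' ≤ f.ker := fun c hc => hfk.mpr fun v hv => hmoves c ⟨hc, hLC c.2⟩ v hv
  have hIfix : ∀ l ∈ L, ∀ v ∈ I, φ l v = v := fun l hl v hv =>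
    hfk.mp (show (⟨l, hl⟩ : L) ∈ f.ker by rw [← sup_eq_left.mpr hBker, hKA]; trivial) v hv
  have htI : ∀ v ∈ I, φ t v = v := fun v hv => (del_eq_one φ).mp (MonoidHom.mem_ker.mp (hIC hv))
  -- the fixed points of `A`
  have hfixI : fix φ A ⊓ I = ⊥ := by
    refine (Subgroup.eq_bot_iff_forall _).mpr fun v hv => ?_
    let S : Subgroup X := (MulAction.stabilizer (MulAut V) v).comap φ
    have hS : S = ⊤ := hmax S (fun a ha => hv.1 a ha) (fun hle => hLM fun l hl => hle (hIfix l hl v hv.2))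
    have hb := fix_top_eq_bot h.inj hirr ⟨t, ht1⟩
    exact Subgroup.mem_bot.mp (hb ▸ fun g _ => (hS ▸ Subgroup.mem_top g : g ∈ S))
  have hFC : fix φ A ≤ Ct := fun v hv => by
    refine MonoidHom.mem_ker.mpr (Subgroup.mem_bot.mp (hfixI ▸ ⟨fun a ha => ?_, v, rfl⟩))
    have ha' : t * a * t ∈ A := by have := h.ti.conj_mem htM ha; rwa [hti] at this
    rw [show T v = φ t v * v⁻¹ from rfl, map_mul, map_inv, hv a ha]
    congr 1
    conv_rhs => rw [← hv _ ha']
    rw [← apply_mul, ← apply_mul, show t * (t * a * t) = (t * t) * (a * t) by group, ht2, one_mul]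
  -- the functional
  have hU : ∀ l : L, ∀ u ∈ Ct, (φ.comp L.subtype) l u ∈ Ct := fun l u hu => hCinv l l.2 u hu
  obtain ⟨ρ, hρI, hρ⟩ := exists_functional_moved (restr (φ.comp L.subtype) Ct hU) (h.exp.subgroup Ct) hti' hM'
    hmin' (I := I.subgroupOf Ct) (fun l _ u hu => hIinv l l.2 _ hu) (fun hall => hnone fun l hl => by
      obtain ⟨k, hk⟩ := hall ⟨l, hl⟩
      exact ⟨k, fun v hv => hk ⟨v, hv⟩⟩)
  set X0 := fix φ B ⊓ Ct
  have hX0 : ∀ a ∈ A, ∀ v ∈ X0, φ a v ∈ X0 := by
    intro a ha v hv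
    refine ⟨fun b hb => ?_, MonoidHom.mem_ker.mpr ((del_eq_one φ).mpr ?_)⟩
    · rw [← apply_mul, h.ti.comm b hb.1 a ha, apply_mul, hv.1 b hb]
    · have hd := hτ a ha
      have htv : φ t v = v := (del_eq_one φ).mp (MonoidHom.mem_ker.mp hv.2)
      have he : t * a = a * (a * (t * a * t)) * t := by
        rw [show a * (a * (t * a * t)) * t = (a * a) * t * a * (t * t) by group, h.ti.sq a ha, one_mul, ht2, mul_one]
      rw [← apply_mul, he, apply_mul, htv, apply_mul, hv.1 _ hd]
  have hIX : I ≤ X0 := le_inf (fun v hv b hb => hmoves b hb v hv) hIC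
  have hstep := h.poly_step (B := B) inf_le_left hIX hX0 inf_le_left (le_inf (fix_anti φ inf_le_left) hFC)
    (ρ.comp (Subgroup.inclusion (inf_le_right : X0 ≤ Ct))) (by
      intro a ha haB
      have hd := hτ a ha
      set d := a * (t * a * t) with hddef
      have hd1 : d ≠ 1 := by
        intro e
        refine haB ⟨ha, Subgroup.mem_centralizer_singleton_iff.mpr ?_⟩
        have h2 : t * a * t = a := by
          rw [show t * a * t = a⁻¹ * (a * (t * a * t)) by group, ← hddef, e, mul_one, h.ti.inv_eq ha]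
        calc a * t = t * a * t * t := by rw [h2]
          _ = t * a := by rw [mul_assoc, ht2, mul_one]
      obtain ⟨v, hv⟩ := hρ ⟨d, hBL hd⟩ hd.1 (fun e => hd1 (congrArg Subtype.val e))
      set i := T (φ a v) with hi
      have hiI : i ∈ I := ⟨_, rfl⟩
      refine ⟨i, hiI, fun hbad => hv ?_⟩
      have hdv : φ d v = φ a i * v := by
        have htv : φ t v = v := (del_eq_one φ).mp (MonoidHom.mem_ker.mp v.2)
        have he : φ d v = φ a (φ t (φ a (φ t v))) := by
          rw [hddef, apply_mul, apply_mul, apply_mul]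
        rw [he, htv, show φ t (φ a v) = i * φ a v by rw [hi]; exact apply_eq_del φ t _, map_mul, ← apply_mul φ a a,
          h.ti.sq a ha, apply_one]
      have h0 : ρ ⟨i, hIC hiI⟩ = 1 := hρI _ hiI
      have haiC : φ a i ∈ Ct := (hX0 a ha i (hIX hiI)).2
      have h1 : ρ ⟨φ a i, haiC⟩ = 1 := by
        have hbad' : ρ (⟨φ a i, haiC⟩ * (⟨i, hIC hiI⟩ : Ct)⁻¹) = 1 := hbad
        rwa [map_mul, map_inv, h0, inv_one, mul_one] at hbad'
      show ρ ⟨φ d v, _⟩ = ρ v
      calc ρ ⟨φ d v, hU ⟨d, hBL hd⟩ v v.2⟩ = ρ (⟨φ a i, haiC⟩ * v) := congrArg ρ (Subtype.ext hdv)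
        _ = ρ v := by rw [map_mul, h1, one_mul])
  have hfull : dl (fix φ B ⊓ I) = dl I := by rw [inf_eq_right.mpr (fun v hv b hb => hmoves b hb v hv)]
  have hX0eq : dl X0 = dl (fix φ B ⊓ Ct) := rfl
  have hm0 : dl (fix φ B ⊓ W0) ≤ dl W0 := dl_mono inf_le_right
  omega

end Rep

end CfsgLib.SFreeW
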